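import Cfsg.Agent.Lib.SuzukiTwo.Higman

/-!
The quadratic map on `P ⧸ Z(P)` of a Suzuki 2-group, its order (`q²` or `q³`) and exponent 4.
-/

set_option autoImplicit false

open scoped commutatorElement

namespace Cfsg.Agent.SuzukiTwo

variable {F : Type*} [Field F] [Fintype F] [CharP F 2]

lemma two_pow_succ_dvd_of_dvd_sq : ∀ (n : ℕ) (S : ℤ), (2 : ℤ) ^ (2 * n + 1) ∣ S * S →
    (2 : ℤ) ^ (n + 1) ∣ S := by
  intro n
  induction n with
  | zero =>
    intro S h
    have h' : (2 : ℤ) ∣ S * S := by simpa using h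
    simpa using (Int.prime_two.dvd_or_dvd h').elim id id
  | succ n ih =>
    intro S h
    obtain ⟨T, rfl⟩ : (2 : ℤ) ∣ S :=
      (Int.prime_two.dvd_or_dvd ((dvd_pow_self 2 (by omega)).trans h)).elim id id
    have h2 : (2 : ℤ) ^ 2 * 2 ^ (2 * n + 1) ∣ 2 ^ 2 * (T * T) := by
      rw [← pow_add, show 2 + (2 * n + 1) = 2 * (n + 1) + 1 by ring]
      rwa [show (2 : ℤ) ^ 2 * (T * T) = 2 * T * (2 * T) by ring]
    rw [pow_succ' 2 (n + 1)]
    exact mul_dvd_mul_left 2 (ih T ((mul_dvd_mul_iff_left (by norm_num)).1 h2))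

namespace SuzData

variable {P : Type*} [Group P] (d : SuzData P F)
include d

omit [Fintype F] [CharP F 2] in
lemma card_V : Nat.card d.V = Nat.card F := by
  refine Nat.card_congr (Equiv.ofBijective (fun v : d.V => d.ι v) ⟨fun v w h => Subtype.ext
    (d.ι_inj v.2 w.2 h), fun x => ?_⟩)
  obtain ⟨v, hv, rfl⟩ := d.ι_surj x
  exact ⟨⟨v, hv⟩, rfl⟩

/-- The squaring map on `P ⧸ Z(P)`. -/
noncomputable def quad (u : P ⧸ Subgroup.center P) : F := d.ι (u.out * u.out)

lemma sq_congr {p v : P} (hv : v * v = 1) : p * v * (p * v) = p * p := by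
  calc p * v * (p * v) = p * (v * p) * v := by group
    _ = p * (p * v) * v := by rw [d.comm_of_sq_one hv p]
    _ = p * p * (v * v) := by group
    _ = p * p := by rw [hv, mul_one]

lemma quad_mk (p : P) : d.quad (p : P ⧸ Subgroup.center P) = d.ι (p * p) := by
  obtain ⟨⟨v, hv⟩, e⟩ := QuotientGroup.mk_out_eq_mul (Subgroup.center P) p
  rw [d.center_eq_V] at hv
  rw [quad, e, d.sq_congr hv]

lemma sq_mul (p r : P) : p * r * (p * r) = ⁅r, p⁆ * (p * p) * (r * r) := by
  calc p * r * (p * r) = p * ⁅r, p⁆ * p * (r * r) := by rw [commutatorElement_def]; group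
    _ = _ := by rw [d.comm_of_sq_one (d.comm_mem_V r p) p]; group

lemma ι_sq_mul (p r : P) :
    d.ι (p * r * (p * r)) = d.ι ⁅r, p⁆ + d.ι (p * p) + d.ι (r * r) := by
  rw [d.sq_mul, d.ι_mul _ _ (d.sq_one_mul (d.comm_mem_V r p) (d.sq_mem_V p)) (d.sq_mem_V r),
    d.ι_mul _ _ (d.comm_mem_V r p) (d.sq_mem_V p)]

lemma comm_mul_left (p p' r : P) : d.ι ⁅p * p', r⁆ = d.ι ⁅p, r⁆ + d.ι ⁅p', r⁆ := by
  have e : ⁅p * p', r⁆ = p * ⁅p', r⁆ * p⁻¹ * ⁅p, r⁆ := by
    simp only [commutatorElement_def]; group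
  rw [e, d.comm_of_sq_one (d.comm_mem_V p' r) p, mul_inv_cancel_right,
    d.ι_mul _ _ (d.comm_mem_V p' r) (d.comm_mem_V p r), add_comm]

lemma comm_symm (p r : P) : d.ι ⁅p, r⁆ = d.ι ⁅r, p⁆ := by
  rw [← commutatorElement_inv, inv_eq_of_mul_eq_one_left (d.comm_mem_V r p)]

/-- The polarisation of `quad` is biadditive. -/
lemma polar_add (x y z : P ⧸ Subgroup.center P) :
    d.quad (x * y * z) + d.quad (x * y) + d.quad (x * z) + d.quad (y * z) + d.quad x + d.quad y +
      d.quad z = 0 := by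
  induction x using QuotientGroup.induction_on with | H a => ?_
  induction y using QuotientGroup.induction_on with | H b => ?_
  induction z using QuotientGroup.induction_on with | H c => ?_
  simp only [← QuotientGroup.mk_mul, d.quad_mk]
  rw [d.ι_sq_mul (a * b) c, d.ι_sq_mul a b, d.ι_sq_mul a c, d.ι_sq_mul b c,
    d.comm_symm c (a * b), d.comm_mul_left, d.comm_symm a c, d.comm_symm b c]
  linear_combination CharTwo.add_self_eq_zero (d.ι ⁅c, a⁆) + CharTwo.add_self_eq_zero (d.ι ⁅c, b⁆) +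
    CharTwo.add_self_eq_zero (d.ι ⁅b, a⁆) + 2 * CharTwo.add_self_eq_zero (d.ι (a * a)) +
    2 * CharTwo.add_self_eq_zero (d.ι (b * b)) + 2 * CharTwo.add_self_eq_zero (d.ι (c * c))

lemma quad_eq_zero {u : P ⧸ Subgroup.center P} (h : d.quad u = 0) : u = 1 := by
  induction u using QuotientGroup.induction_on with | H p => ?_
  rw [d.quad_mk] at h
  exact (QuotientGroup.eq_one_iff p).2 (d.central p (d.ι_eq_zero _ (d.sq_mem_V p) h))

/-- `g` on `P ⧸ Z(P)`. -/
def gbar : P ⧸ Subgroup.center P →* P ⧸ Subgroup.center P :=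
  QuotientGroup.map _ _ d.g.toMonoidHom (fun z hz => by
    show d.g z ∈ Subgroup.center P
    rw [Subgroup.mem_center_iff] at hz ⊢
    intro q
    rw [← d.g.apply_symm_apply q, ← map_mul, ← map_mul, hz])

lemma gbar_mk (p : P) : d.gbar (p : P ⧸ Subgroup.center P) = ((d.g p : P) : P ⧸ Subgroup.center P) :=
  rfl

lemma quad_gbar (u : P ⧸ Subgroup.center P) : d.quad (d.gbar u) = d.ω * d.quad u := by
  induction u using QuotientGroup.induction_on with | H p => ?_
  rw [d.gbar_mk, d.quad_mk, d.quad_mk, ← map_mul, d.ι_g _ (d.sq_mem_V p)]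

lemma gbar_injective : Function.Injective d.gbar := by
  refine (injective_iff_map_eq_one _).2 fun u hu => d.quad_eq_zero ?_
  have h := d.quad_gbar u
  rw [hu] at h
  have h1 : d.quad 1 = 0 := by
    rw [← QuotientGroup.mk_one, d.quad_mk, one_mul, d.ι_one]
  rw [h1] at h
  exact (mul_eq_zero.1 h.symm).resolve_left d.ω_ne_zero

/-- `|P ⧸ Z(P)| = 1 + r (q - 1)`: all fibres of `quad` off `0` have the same size. -/
lemma card_quotient_sub_one :
    Nat.card F - 1 ∣ Nat.card (P ⧸ Subgroup.center P) - 1 := by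
  classical
  haveI := d.finite
  letI : Fintype (P ⧸ Subgroup.center P) := Fintype.ofFinite _
  let r : F → ℕ := fun x => (Finset.univ.filter fun u => d.quad u = x).card
  have hr : ∀ x, r x = r (d.ω * x) := by
    intro x
    refine le_antisymm ?_ ?_
    · refine Finset.card_le_card_of_injOn d.gbar (fun u hu => ?_) d.gbar_injective.injOn
      simp only [Finset.mem_coe, Finset.mem_filter, Finset.mem_univ, true_and] at hu ⊢
      rw [d.quad_gbar, hu]
    · obtain ⟨e, he⟩ : ∃ e : (P ⧸ Subgroup.center P) ≃ (P ⧸ Subgroup.center P), ⇑e = d.gbar :=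
        ⟨Equiv.ofBijective _ (Finite.injective_iff_bijective.1 d.gbar_injective), rfl⟩
      refine Finset.card_le_card_of_injOn e.symm (fun u hu => ?_) e.symm.injective.injOn
      simp only [Finset.mem_coe, Finset.mem_filter, Finset.mem_univ, true_and] at hu ⊢
      have := d.quad_gbar (e.symm u)
      rw [← he, Equiv.apply_symm_apply, hu] at this
      exact (mul_left_cancel₀ d.ω_ne_zero this).symm
  have hr1 : ∀ x, x ≠ 0 → r x = r 1 := by
    intro x hx
    obtain ⟨j, rfl⟩ := d.generates x hx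
    clear hx
    induction j with
    | zero => simp
    | succ j ih => rw [pow_succ', ← hr, ih]
  have hr0 : r 0 = 1 := by
    refine Finset.card_eq_one.2 ⟨1, Finset.ext fun u => ?_⟩
    simp only [Finset.mem_filter, Finset.mem_univ, true_and, Finset.mem_singleton]
    refine ⟨d.quad_eq_zero, ?_⟩
    rintro rfl
    rw [← QuotientGroup.mk_one, d.quad_mk, one_mul, d.ι_one]
  have hsum : Fintype.card (P ⧸ Subgroup.center P) = 1 + (Fintype.card F - 1) * r 1 := by
    rw [← Finset.card_univ,
      Finset.card_eq_sum_card_fiberwise (f := d.quad) (t := Finset.univ) (fun _ _ => Finset.mem_univ _),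
      ← Finset.add_sum_erase _ _ (Finset.mem_univ (0 : F))]
    show r 0 + ∑ x ∈ Finset.univ.erase 0, r x = _
    rw [hr0, Finset.sum_congr rfl fun x hx => hr1 x (Finset.ne_of_mem_erase hx), Finset.sum_const,
      smul_eq_mul, Finset.card_erase_of_mem (Finset.mem_univ _), Finset.card_univ]
  refine ⟨r 1, ?_⟩
  rw [Nat.card_eq_fintype_card, Nat.card_eq_fintype_card, hsum, Nat.add_sub_cancel_left]

/-- A quadratic map into `F` with trivial zero set lives on a group of order at most `q²`. -/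
lemma card_quotient_le {n m : ℕ} (hn : Nat.card F = 2 ^ n)
    (hm : Nat.card (P ⧸ Subgroup.center P) = 2 ^ m) : m ≤ 2 * n := by
  classical
  haveI := d.finite
  haveI := Fact.mk Nat.prime_two
  letI : Fintype (P ⧸ Subgroup.center P) := Fintype.ofFinite _
  letI := ZMod.algebra F 2
  let T : F →+ ZMod 2 := (Algebra.trace (ZMod 2) F).toAddMonoidHom
  obtain ⟨z₀, hz₀⟩ : ∃ z, T z ≠ 0 := by
    obtain ⟨z, hz⟩ := Algebra.trace_surjective (ZMod 2) F 1
    exact ⟨z, by simp [T, hz]⟩
  let ψ : F → ℤ := fun x => if T x = 0 then 1 else -1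
  have hψ : ∀ x y, ψ (x + y) = ψ x * ψ y := by
    intro x y
    simp only [ψ, map_add]
    rcases zmod_two_cases (T x) with h | h <;> rcases zmod_two_cases (T y) with h' | h' <;>
      simp [h, h', show (1 + 1 : ZMod 2) = 0 from rfl]
  have hψ0 : ψ 0 = 1 := by simp [ψ]
  have hψz : ψ z₀ = -1 := by simp [ψ, hz₀]
  have hchar : ∀ x : F, x ≠ 0 → ∑ a, ψ (a * x) = 0 := by
    intro x hx
    have e : ∑ a, ψ (a * x) = ∑ y, ψ y := Fintype.sum_equiv (Equiv.mulRight₀ x hx) _ _ (fun a => rfl)
    have h : ∑ y, ψ y = ∑ y, ψ (y + z₀) := (Fintype.sum_equiv (Equiv.addRight z₀) _ _ (fun y => rfl)).symm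
    simp only [hψ, hψz, mul_neg, mul_one, Finset.sum_neg_distrib] at h
    rw [e]; linarith
  have hQ1 : d.quad 1 = 0 := by rw [← QuotientGroup.mk_one, d.quad_mk, one_mul, d.ι_one]
  let S : F → ℤ := fun a => ∑ u, ψ (a * d.quad u)
  have hS : ∀ a, (2 : ℤ) ^ m ∣ S a * S a := by
    intro a
    let β : (P ⧸ Subgroup.center P) → (P ⧸ Subgroup.center P) → F := fun h u =>
      d.quad (u * h) + d.quad u + d.quad h
    have e1 : S a * S a = ∑ h, ψ (a * d.quad h) * ∑ u, ψ (a * β h u) := by
      have t0 : ∀ z : F, z + z = 0 := CharTwo.add_self_eq_zero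
      calc S a * S a = ∑ u, ∑ h, ψ (a * d.quad u) * ψ (a * d.quad (u * h)) := by
            simp only [S]
            rw [Finset.sum_mul_sum]
            exact Finset.sum_congr rfl fun u _ =>
              (Fintype.sum_equiv (Equiv.mulLeft u) _ _ (fun h => rfl)).symm
        _ = ∑ h, ∑ u, ψ (a * d.quad h) * ψ (a * β h u) := by
            rw [Finset.sum_comm]
            refine Finset.sum_congr rfl fun h _ => Finset.sum_congr rfl fun u _ => ?_
            rw [← hψ, ← hψ]
            congr 1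
            simp only [β]
            linear_combination (-a) * t0 (d.quad h)
        _ = _ := by simp only [Finset.mul_sum]
    rw [e1]
    refine Finset.dvd_sum fun h _ => Dvd.dvd.mul_left ?_ _
    by_cases hall : ∀ u, ψ (a * β h u) = 1
    · rw [Finset.sum_congr rfl fun u _ => hall u, Finset.sum_const, Finset.card_univ,
        ← Nat.card_eq_fintype_card, hm]
      simp
    · simp only [not_forall] at hall
      obtain ⟨u₀, hu₀⟩ := hall
      have hadd : ∀ u, β h (u * u₀) = β h u + β h u₀ := by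
        intro u
        have h1 := d.polar_add u u₀ h
        simp only [β]
        linear_combination h1 - CharTwo.add_self_eq_zero (d.quad (u * h)) -
          CharTwo.add_self_eq_zero (d.quad (u₀ * h)) - CharTwo.add_self_eq_zero (d.quad u) -
          CharTwo.add_self_eq_zero (d.quad u₀) - CharTwo.add_self_eq_zero (d.quad h)
      have hval : ψ (a * β h u₀) = -1 := by
        simp only [ψ] at hu₀ ⊢
        split_ifs at hu₀ ⊢ <;> first | rfl | exact absurd rfl hu₀
      have e : ∑ u, ψ (a * β h u) = ∑ u, ψ (a * β h (u * u₀)) :=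
        (Fintype.sum_equiv (Equiv.mulRight u₀) _ _ (fun u => rfl)).symm
      simp only [hadd, mul_add, hψ, hval, mul_neg, mul_one, Finset.sum_neg_distrib] at e
      rw [show ∑ u, ψ (a * β h u) = 0 by linarith]
      exact dvd_zero _
  have hsum : ∑ a, S a = (2 : ℤ) ^ n := by
    simp only [S]
    rw [Finset.sum_comm, Finset.sum_eq_single (1 : P ⧸ Subgroup.center P)]
    · simp only [hQ1, mul_zero, hψ0, Finset.sum_const, Finset.card_univ, ← Nat.card_eq_fintype_card, hn]
      simp
    · exact fun u _ hu => hchar _ fun h => hu (d.quad_eq_zero h)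
    · intro h; exact absurd (Finset.mem_univ _) h
  by_contra hlt
  have hdvd : ∀ a, (2 : ℤ) ^ (n + 1) ∣ S a := fun a =>
    two_pow_succ_dvd_of_dvd_sq n _ ((pow_dvd_pow 2 (by omega)).trans (hS a))
  have := Finset.dvd_sum (s := Finset.univ) fun a _ => hdvd a
  rw [hsum] at this
  have h2 : (2 : ℕ) ^ (n + 1) ∣ 2 ^ n := by exact_mod_cast this
  rw [Nat.pow_dvd_pow_iff_le_right (by norm_num)] at h2
  omega

theorem card_eq :
    Nat.card P = Nat.card (Subgroup.center P) ^ 2 ∨ Nat.card P = Nat.card (Subgroup.center P) ^ 3 := by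
  haveI := d.finite
  haveI := Fact.mk Nat.prime_two
  obtain ⟨n, hn0, hn⟩ := FiniteField.card F 2
  have hn' : Nat.card F = 2 ^ (n : ℕ) := by rw [Nat.card_eq_fintype_card, hn]
  obtain ⟨m, hm⟩ := IsPGroup.iff_card.1 (d.pgroup.to_quotient (Subgroup.center P))
  have hle := d.card_quotient_le hn' hm
  have hdvd := d.card_quotient_sub_one
  rw [hn', hm] at hdvd
  replace hdvd : (n : ℕ) ∣ m := by
    have h := Nat.gcd_eq_left hdvd
    rw [Nat.pow_sub_one_gcd_pow_sub_one] at h
    have h2 : 2 ^ Nat.gcd n m = 2 ^ (n : ℕ) := by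
      have := Nat.one_le_two_pow (n := Nat.gcd n m)
      have := Nat.one_le_two_pow (n := (n : ℕ))
      omega
    exact Nat.gcd_eq_left_iff_dvd.1 (Nat.pow_right_injective le_rfl h2)
  have hm0 : m ≠ 0 := by
    rintro rfl
    obtain ⟨x, y, hxy⟩ := d.nonabelian
    haveI : Subsingleton (P ⧸ Subgroup.center P) := by
      rw [pow_zero] at hm
      exact (Nat.card_eq_one_iff_unique.1 hm).1
    exact hxy (Subgroup.mem_center_iff.1 ((QuotientGroup.eq_one_iff y).1 (Subsingleton.elim _ _)) x)
  obtain ⟨c, rfl⟩ := hdvd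
  rw [Subgroup.card_eq_card_quotient_mul_card_subgroup (Subgroup.center P), hm, d.center_eq_V,
    d.card_V, hn']
  have hnpos := n.pos
  have hc2 : c ≤ 2 := Nat.le_of_mul_le_mul_left (by rw [mul_comm 2] at hle; exact hle) hnpos
  have hc0 : c ≠ 0 := by rintro rfl; exact hm0 (mul_zero _)
  interval_cases c
  · exact absurd rfl hc0
  · left; rw [mul_one, pow_two]
  · right; rw [← pow_mul, ← pow_add]; ring_nf

lemma exponent_eq : Monoid.exponent P = 4 := by
  obtain ⟨p, hp⟩ : ∃ p : P, p * p ≠ 1 := by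
    by_contra h
    simp only [not_exists, not_not] at h
    obtain ⟨x, y, hxy⟩ := d.nonabelian
    exact hxy (d.comm_of_sq_one (h y) x)
  have hdvd : Monoid.exponent P ∣ 2 ^ 2 := Monoid.exponent_dvd_of_forall_pow_eq_one fun x => by
    rw [show (2 : ℕ) ^ 2 = 2 * 2 from rfl, pow_mul, pow_two, pow_two]; exact d.sq_mem_V x
  obtain ⟨i, hi, he⟩ := (Nat.dvd_prime_pow Nat.prime_two).1 hdvd
  interval_cases i
  · exact absurd (by
      have := Monoid.pow_exponent_eq_one p
      rw [he, pow_zero, pow_one] at this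
      rw [this, mul_one]) hp
  · exact absurd (by
      have := Monoid.pow_exponent_eq_one p
      rwa [he, pow_one, pow_two] at this) hp
  · exact he

end SuzData

end Cfsg.Agent.SuzukiTwo
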