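import Cfsg.Agent.Lib.Sectional.NormalEightBase
import Cfsg.Agent.Lib.PGroup.Basic
/-!
# The Suzuki 2-groups of order 64 with centre of order 4 (helper5)

`nonempty_mulEquiv`: two groups of order `64` with a central `V` of order `4` consisting of the elements of
order at most two, all squares in `V` and twenty square roots for each involution, are isomorphic.
-/

set_option autoImplicit false
set_option linter.style.haveILetI false
set_option linter.unusedSectionVars false

open Subgroup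
open scoped commutatorElement

namespace Cfsg.Agent.SuzukiTwo.SixtyFour

/-- The hypotheses. -/
structure Sixty (T : Type*) [Group T] (V : Subgroup T) : Prop where
  card : Nat.card T = 64
  mem : ∀ x, x ∈ V ↔ x * x = 1
  cen : ∀ v ∈ V, ∀ x, x * v = v * x
  cardV : Nat.card V = 4
  sq : ∀ x, x * x ∈ V
  roots : ∀ v ∈ V, v ≠ 1 → Nat.card {x : T // x * x = v} = 20

/-- The commutator table. -/
def pat {T : Type*} [Group T] (v w : T) (i j : Fin 4) : T := if i.1 + 1 = j.1 then v * w else w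

/-- A generating system with the standard table. -/
structure Pattern (T : Type*) [Group T] (v w : T) (e : Fin 4 → T) : Prop where
  cv : ∀ x, x * v = v * x
  cw : ∀ x, x * w = w * x
  v2 : v * v = 1
  w2 : w * w = 1
  sqe : ∀ i, e i * e i = v
  comm : ∀ i j, i < j → ⁅e i, e j⁆ = pat v w i j
  gen : ∀ K : Subgroup T, v ∈ K → w ∈ K → (∀ i, e i ∈ K) → K = ⊤

theorem card_sup_le {G : Type*} [Group G] [Finite G] {K : Subgroup G} {q : G} (hc : ∀ k ∈ K, Commute k q)
    (hq : q * q = 1) : Nat.card (K ⊔ zpowers q : Subgroup G) ≤ 2 * Nat.card K := by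
  let f := MonoidHom.noncommCoprod K.subtype (zpowers q).subtype (fun k t => by
    obtain ⟨j, hj⟩ := t.2
    show Commute (k : G) (t : G)
    rw [← hj]
    exact (hc k k.2).zpow_right j)
  have hr : f.range = K ⊔ zpowers q := by rw [MonoidHom.noncommCoprod_range, range_subtype, range_subtype]
  rw [← hr]
  refine (Nat.card_le_card_of_surjective _ f.rangeRestrict_surjective).trans ?_
  rw [Nat.card_prod, Nat.card_zpowers, mul_comm]
  exact Nat.mul_le_mul_right _
    (Nat.le_of_dvd (by norm_num) (orderOf_dvd_iff_pow_eq_one.mpr (by rw [pow_two, hq])))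

theorem mulEquiv_of_pattern {T T' : Type*} [Group T] [Group T'] [Finite T] [Finite T'] {v w : T} {e : Fin 4 → T}
    {v' w' : T'} {e' : Fin 4 → T'} (h : Pattern T v w e) (h' : Pattern T' v' w' e') (hT : Nat.card T = 64)
    (hT' : Nat.card T' = 64) : Nonempty (T ≃* T') := by
  set N : Subgroup (T × T') := zpowers (v, v') ⊔ zpowers (w, w') with hN
  have hNc : N ≤ center (T × T') :=
    sup_le (zpowers_le.mpr (mem_center_iff.mpr fun x => Prod.ext (h.cv x.1) (h'.cv x.2)))
      (zpowers_le.mpr (mem_center_iff.mpr fun x => Prod.ext (h.cw x.1) (h'.cw x.2)))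
  haveI hNn : N.Normal := ⟨fun n hn g => by rw [mem_center_iff.mp (hNc hn) g, mul_inv_cancel_right]; exact hn⟩
  have hN4 : Nat.card N ≤ 4 := by
    refine (card_sup_le (fun k _ => Prod.ext (h.cw k.1) (h'.cw k.2)) (Prod.ext h.w2 h'.w2)).trans ?_
    rw [Nat.card_zpowers]
    have := Nat.le_of_dvd (show 0 < 2 by norm_num) (orderOf_dvd_iff_pow_eq_one.mpr
      (show (v, v') ^ 2 = 1 by rw [pow_two]; exact Prod.ext h.v2 h'.v2))
    omega
  set π := QuotientGroup.mk' N
  have hker : π.ker = N := QuotientGroup.ker_mk' N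
  have hπ : ∀ {x : T × T'}, x ∈ N → π x = 1 := fun {x} hx => (QuotientGroup.eq_one_iff x).mpr hx
  have hv : (v, v') ∈ N := mem_sup_left (mem_zpowers _)
  have hw : (w, w') ∈ N := mem_sup_right (mem_zpowers _)
  let q : Fin 4 → (T × T') ⧸ N := fun i => π (e i, e' i)
  have hq2 : ∀ i, q i * q i = 1 := fun i => by
    rw [← map_mul]
    exact hπ (by rw [Prod.mk_mul_mk, h.sqe, h'.sqe]; exact hv)
  have hlt : ∀ i j, i < j → Commute (q i) (q j) := fun i j hij => by
    refine commutatorElement_eq_one_iff_mul_comm.mp ?_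
    rw [← map_commutatorElement]
    refine hπ ?_
    have e0 : ⁅(e i, e' i), (e j, e' j)⁆ = (⁅e i, e j⁆, ⁅e' i, e' j⁆) := rfl
    rw [e0, h.comm i j hij, h'.comm i j hij, pat, pat]
    split_ifs
    · rw [← Prod.mk_mul_mk]; exact mul_mem hv hw
    · exact hw
  have hqc : ∀ i j, Commute (q i) (q j) := fun i j => by
    rcases lt_trichotomy i j with hij | hij | hij
    · exact hlt i j hij
    · subst hij; exact Commute.refl _
    · exact (hlt j i hij).symm
  set Γ : Subgroup (T × T') := (zpowers (q 0) ⊔ zpowers (q 1) ⊔ zpowers (q 2) ⊔ zpowers (q 3)).comap π with hΓ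
  have hle : ∀ {K : Subgroup ((T × T') ⧸ N)} (i : Fin 4), K ≤ centralizer ({q i} : Set ((T × T') ⧸ N)) →
      ∀ k ∈ K, Commute k (q i) := fun {K} i hK k hk => mem_centralizer_singleton_iff.mp (hK hk)
  have hc : ∀ i j : Fin 4, zpowers (q i) ≤ centralizer ({q j} : Set ((T × T') ⧸ N)) := fun i j =>
    zpowers_le.mpr (mem_centralizer_singleton_iff.mpr (hqc i j))
  have hQ16 : Nat.card (zpowers (q 0) ⊔ zpowers (q 1) ⊔ zpowers (q 2) ⊔ zpowers (q 3) :
      Subgroup ((T × T') ⧸ N)) ≤ 16 := by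
    have k0 : Nat.card (zpowers (q 0)) ≤ 2 := by
      rw [Nat.card_zpowers]
      exact Nat.le_of_dvd (by norm_num) (orderOf_dvd_iff_pow_eq_one.mpr (by rw [pow_two, hq2]))
    have k1 := card_sup_le (hle 1 (hc 0 1)) (hq2 1)
    have k2 := card_sup_le (hle 2 (sup_le (hc 0 2) (hc 1 2))) (hq2 2)
    have k3 := card_sup_le (hle 3 (sup_le (sup_le (hc 0 3) (hc 1 3)) (hc 2 3))) (hq2 3)
    omega
  have hΓ64 : Nat.card Γ ≤ 64 := by
    have h1 := card_eq_map_mul' π Γ
    have h2 : Nat.card (Γ.map π) ≤ 16 := (card_le_of_le (map_comap_le _ _)).trans hQ16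
    have h3 : Nat.card (Γ ⊓ π.ker : Subgroup (T × T')) ≤ 4 := (card_le_of_le inf_le_right).trans (hker.symm ▸ hN4)
    calc Nat.card Γ = Nat.card (Γ.map π) * Nat.card (Γ ⊓ π.ker : Subgroup (T × T')) := h1.symm
      _ ≤ 16 * 4 := Nat.mul_le_mul h2 h3
  have hmemN : ∀ {x : T × T'}, x ∈ N → x ∈ Γ := fun {x} hx => by
    rw [hΓ, mem_comap, hπ hx]; exact one_mem _
  have hmemE : ∀ i, (e i, e' i) ∈ Γ := fun i => by
    rw [hΓ, mem_comap]
    show q i ∈ _
    fin_cases i
    · exact mem_sup_left (mem_sup_left (mem_sup_left (mem_zpowers _)))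
    · exact mem_sup_left (mem_sup_left (mem_sup_right (mem_zpowers _)))
    · exact mem_sup_left (mem_sup_right (mem_zpowers _))
    · exact mem_sup_right (mem_zpowers _)
  let p1 : Γ →* T := (MonoidHom.fst T T').comp Γ.subtype
  let p2 : Γ →* T' := (MonoidHom.snd T T').comp Γ.subtype
  have s1 : Function.Surjective p1 := MonoidHom.range_eq_top.mp (h.gen _ ⟨⟨_, hmemN hv⟩, rfl⟩ ⟨⟨_, hmemN hw⟩, rfl⟩
    fun i => ⟨⟨_, hmemE i⟩, rfl⟩)
  have s2 : Function.Surjective p2 := MonoidHom.range_eq_top.mp (h'.gen _ ⟨⟨_, hmemN hv⟩, rfl⟩ ⟨⟨_, hmemN hw⟩, rfl⟩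
    fun i => ⟨⟨_, hmemE i⟩, rfl⟩)
  have b1 : Function.Bijective p1 := (Nat.bijective_iff_surjective_and_card p1).mpr
    ⟨s1, le_antisymm (hΓ64.trans hT.ge) (Nat.card_le_card_of_surjective _ s1)⟩
  have b2 : Function.Bijective p2 := (Nat.bijective_iff_surjective_and_card p2).mpr
    ⟨s2, le_antisymm (hΓ64.trans hT'.ge) (Nat.card_le_card_of_surjective _ s2)⟩
  exact ⟨(MulEquiv.ofBijective p1 b1).symm.trans (MulEquiv.ofBijective p2 b2)⟩
where
  card_eq_map_mul' {G Q : Type _} [Group G] [Group Q] [Finite G] (f : G →* Q) (H : Subgroup G) :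
      Nat.card (H.map f) * Nat.card (H ⊓ f.ker : Subgroup G) = Nat.card H :=
    Cfsg.Agent.Sectional.card_eq_map_mul f H

/-- Bit of a symmetric table. -/
def tbl (b01 b02 b03 b12 b13 b23 : Bool) : Fin 4 → Fin 4 → Bool
  | 0, 1 => b01 | 1, 0 => b01
  | 0, 2 => b02 | 2, 0 => b02
  | 0, 3 => b03 | 3, 0 => b03
  | 1, 2 => b12 | 2, 1 => b12
  | 1, 3 => b13 | 3, 1 => b13
  | 2, 3 => b23 | 3, 2 => b23
  | _, _ => false

/-- One coordinate of the squaring form. -/
def form (d b01 b02 b03 b12 b13 b23 : Bool) (a : Bool × Bool × Bool × Bool) : Bool :=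
  xor (xor (xor (a.1 && d) (a.2.1 && d)) (xor (a.2.2.1 && d) (a.2.2.2 && d)))
    (xor (xor (xor (a.1 && a.2.1 && b01) (a.1 && a.2.2.1 && b02)) (xor (a.1 && a.2.2.2 && b03) (a.2.1 && a.2.2.1 && b12)))
      (xor (a.2.1 && a.2.2.2 && b13) (a.2.2.1 && a.2.2.2 && b23)))

theorem table_second : ∀ b01 b02 b03 b12 b13 b23 : Bool,
    Fintype.card {a : Bool × Bool × Bool × Bool // form false b01 b02 b03 b12 b13 b23 a = true} = 10 →
    b01 = true ∧ b02 = true ∧ b03 = true ∧ b12 = true ∧ b13 = true ∧ b23 = true := by decide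

set_option synthInstance.maxSize 2000 in
theorem table_first : ∀ c01 c02 c03 c12 c13 c23 : Bool,
    Fintype.card {a : Bool × Bool × Bool × Bool //
      form true c01 c02 c03 c12 c13 c23 a = false ∧ form false true true true true true true a = true} = 5 →
    ∃ i j k l : Fin 4, (∀ m : Fin 4, m = i ∨ m = j ∨ m = k ∨ m = l) ∧
      tbl c01 c02 c03 c12 c13 c23 i j = true ∧ tbl c01 c02 c03 c12 c13 c23 j k = true ∧
      tbl c01 c02 c03 c12 c13 c23 k l = true ∧ tbl c01 c02 c03 c12 c13 c23 i k = false ∧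
      tbl c01 c02 c03 c12 c13 c23 i l = false ∧ tbl c01 c02 c03 c12 c13 c23 j l = false := by decide

theorem xor_reorder : ∀ a b c d e f : Bool,
    (a != (b != (c != (d != (e != f))))) = (a != (b != (d != (c != (e ^^ f))))) := by decide

theorem card_split {α : Type*} [Fintype α] (f g : α → Bool) :
    Fintype.card {a // f a = true} =
      Fintype.card {a // (g a, f a) = (true, true)} + Fintype.card {a // (g a, f a) = (false, true)} := by
  classical
  rw [Fintype.card_subtype, Fintype.card_subtype, Fintype.card_subtype, ← Finset.card_union_of_disjoint]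
  · congr 1
    ext a
    simp only [Finset.mem_union, Finset.mem_filter, Finset.mem_univ, true_and, Prod.mk.injEq]
    cases f a <;> cases g a <;> simp
  · refine Finset.disjoint_filter.mpr fun a _ h1 h2 => ?_
    rw [h1] at h2
    exact absurd h2 (by decide)

variable {T : Type*} [Group T] [Finite T] {V : Subgroup T}

theorem Sixty.comm_mem (h : Sixty T V) (x y : T) : ⁅x, y⁆ ∈ V :=
  Cfsg.Agent.Sectional.commutator_mem_of_sq (H := (⊤ : Subgroup T)) (fun z _ => by rw [pow_two]; exact h.sq z)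
    (mem_top x) (mem_top y)

theorem Sixty.sq_mul (h : Sixty T V) (x y : T) : (x * y) * (x * y) = (x * x) * (y * y) * ⁅x, y⁆ := by
  have hc := h.cen _ (h.comm_mem x y)
  have hcc : ⁅x, y⁆ * ⁅x, y⁆ = 1 := (h.mem _).mp (h.comm_mem x y)
  have e : y * x = ⁅x, y⁆ * (x * y) := by
    rw [← inv_eq_of_mul_eq_one_right hcc, commutatorElement_inv, commutatorElement_def]; group
  calc x * y * (x * y) = x * (y * x) * y := by group
    _ = x * ⁅x, y⁆ * x * (y * y) := by rw [e]; group
    _ = (x * x) * ⁅x, y⁆ * (y * y) := by rw [mul_assoc x ⁅x, y⁆ x, ← hc x, ← mul_assoc]; group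
    _ = _ := by rw [mul_assoc, ← hc (y * y), ← mul_assoc]

theorem Sixty.comm_mul (h : Sixty T V) (x x' y : T) : ⁅x * x', y⁆ = ⁅x, y⁆ * ⁅x', y⁆ := by
  calc ⁅x * x', y⁆ = x * ⁅x', y⁆ * x⁻¹ * ⁅x, y⁆ := by simp only [commutatorElement_def]; group
    _ = _ := by
      rw [h.cen _ (h.comm_mem x' y) x, mul_inv_cancel_right, h.cen _ (h.comm_mem x y) ⁅x', y⁆]

/-- Square roots of an involution generate. -/
theorem Sixty.roots_generate (h : Sixty T V) {v : T} (hv : v ∈ V) (hv1 : v ≠ 1) (K : Subgroup T) (hVK : V ≤ K)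
    (hK : ∀ x, x * x = v → x ∈ K) : K = ⊤ := by
  classical
  have : Fact (Nat.Prime 2) := ⟨Nat.prime_two⟩
  have hp : IsPGroup 2 T := IsPGroup.of_card (n := 6) (by rw [h.card]; norm_num)
  by_contra hne
  obtain ⟨t, ht⟩ : ∃ t, t ∉ K := by
    by_contra hc; push Not at hc; exact hne ((eq_top_iff' K).mpr hc)
  have hvv : v * v = 1 := (h.mem v).mp hv
  have ht2 : t * t ≠ 1 ∧ t * t ≠ v := ⟨fun e => ht (hVK ((h.mem t).mpr e)), fun e => ht (hK t e)⟩
  let L : Subgroup T :=
    { carrier := {x | x ∈ K ∧ ⁅t, x⁆ ∈ zpowers v}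
      one_mem' := ⟨one_mem K, by rw [commutatorElement_one_right]; exact one_mem _⟩
      mul_mem' := fun {a b} ha hb => ⟨mul_mem ha.1 hb.1, by
        have e : ⁅t, a * b⁆ = ⁅t, a⁆ * (a * ⁅t, b⁆ * a⁻¹) := by simp only [commutatorElement_def]; group
        rw [e, h.cen _ (h.comm_mem t b) a, mul_inv_cancel_right]
        exact mul_mem ha.2 hb.2⟩
      inv_mem' := fun {a} ha => ⟨inv_mem ha.1, by
        have e : ⁅t, a⁻¹⁆ = a⁻¹ * ⁅t, a⁆⁻¹ * a⁻¹⁻¹ := by simp only [commutatorElement_def]; group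
        rw [e, h.cen _ (inv_mem (h.comm_mem t a)) a⁻¹, mul_inv_cancel_right]
        exact inv_mem ha.2⟩ }
  have hset : (L : Set T) = {x | x * x = 1} ∪ {x | x * x = v} := by
    ext x
    constructor
    · rintro ⟨hxK, hx⟩
      have htx : ¬ ((t * x) * (t * x) = 1 ∨ (t * x) * (t * x) = v) := fun e => ht (by
        have hmem : t * x ∈ K := e.elim (fun e => hVK ((h.mem _).mpr e)) (hK _)
        have := mul_mem hmem (inv_mem hxK)
        rwa [mul_inv_cancel_right] at this)
      by_contra hxc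
      simp only [Set.mem_union, Set.mem_ofPred_eq] at hxc
      apply htx
      rw [h.sq_mul t x]
      have hz : zpowers v ≤ V := zpowers_le.mpr hv
      have hsz : ∀ {y : T}, ¬ (y * y = 1 ∨ y * y = v) → y * y ∉ zpowers v := fun {y} hy e =>
        hy (Cfsg.Agent.Sectional.eq_or_of_mem_zpowers' hvv e)
      have hcard : Nat.card V ≤ 2 * Nat.card (zpowers v) := by
        rw [h.cardV, Nat.card_zpowers,
          (orderOf_eq_prime (by rw [pow_two]; exact hvv) hv1 : orderOf v = 2)]
      have hm := (Cfsg.Agent.Sectional.mul_mem_of_card_le hz hcard (h.sq t)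
        (hsz (fun e => e.elim ht2.1 ht2.2)) (h.sq x) (hsz hxc)).1
      exact Cfsg.Agent.Sectional.eq_or_of_mem_zpowers' hvv (mul_mem hm hx)
    · intro hx
      simp only [Set.mem_union, Set.mem_ofPred_eq] at hx
      have hxK : x ∈ K := hx.elim (fun e => hVK ((h.mem x).mpr e)) (hK x)
      refine ⟨hxK, ?_⟩
      by_contra hxc
      have htx : ¬ ((t * x) * (t * x) = 1 ∨ (t * x) * (t * x) = v) := fun e => ht (by
        have hmem : t * x ∈ K := e.elim (fun e => hVK ((h.mem _).mpr e)) (hK _)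
        have := mul_mem hmem (inv_mem hxK)
        rwa [mul_inv_cancel_right] at this)
      apply htx
      rw [h.sq_mul t x]
      have hz : zpowers v ≤ V := zpowers_le.mpr hv
      have hcard : Nat.card V ≤ 2 * Nat.card (zpowers v) := by
        rw [h.cardV, Nat.card_zpowers,
          (orderOf_eq_prime (by rw [pow_two]; exact hvv) hv1 : orderOf v = 2)]
      have htt : t * t ∉ zpowers v := fun e =>
        (Cfsg.Agent.Sectional.eq_or_of_mem_zpowers' hvv e).elim ht2.1 ht2.2
      have hxx : x * x ∈ zpowers v := hx.elim (fun e => e ▸ one_mem _) (fun e => e ▸ mem_zpowers _)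
      have hm := (Cfsg.Agent.Sectional.mul_mem_of_card_le hz hcard (h.sq t) htt (h.comm_mem t x) hxc).1
      rw [mul_assoc, h.cen _ (h.comm_mem t x) (x * x), ← mul_assoc]
      exact Cfsg.Agent.Sectional.eq_or_of_mem_zpowers' hvv (mul_mem hm hxx)
  have hdisj : Disjoint {x : T | x * x = 1} {x : T | x * x = v} :=
    Set.disjoint_left.mpr fun x (h1 : x * x = 1) (h2 : x * x = v) => hv1 (h2.symm.trans h1)
  have hVc : ({x : T | x * x = 1}).ncard = 4 := by
    rw [← h.cardV, ← Nat.card_coe_set_eq]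
    exact Nat.card_congr (Equiv.subtypeEquivRight fun x => (h.mem x).symm)
  have hRc : ({x : T | x * x = v}).ncard = 20 := by
    rw [← Nat.card_coe_set_eq]; exact h.roots v hv hv1
  have hL : Nat.card L = 24 := by
    rw [← SetLike.coe_sort_coe, Nat.card_coe_set_eq, hset, Set.ncard_union_eq hdisj, hVc, hRc]
  have := card_subgroup_dvd_card L
  rw [hL, h.card] at this
  norm_num at this

theorem Sixty.exists_pattern (h : Sixty T V) : ∃ (v w : T) (e : Fin 4 → T), Pattern T v w e := by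
  classical
  have : Fact (Nat.Prime 2) := ⟨Nat.prime_two⟩
  have hp : IsPGroup 2 T := IsPGroup.of_card (n := 6) (by rw [h.card]; norm_num)
  have hne : ∀ K : Subgroup T, Nat.card K < 4 → ∃ r ∈ V, r ∉ K := fun K hK => by
    by_contra hc
    push Not at hc
    have := card_le_of_le (show V ≤ K from hc)
    rw [h.cardV] at this
    omega
  obtain ⟨v, hv, hv1⟩ := hne ⊥ (by rw [card_bot]; norm_num)
  rw [mem_bot] at hv1
  have hvv : v * v = 1 := (h.mem v).mp hv
  have hzv : Nat.card (zpowers v) = 2 := by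
    rw [Nat.card_zpowers]; exact orderOf_eq_prime (by rw [pow_two]; exact hvv) hv1
  obtain ⟨w, hw, hwv⟩ := hne (zpowers v) (by omega)
  have hww : w * w = 1 := (h.mem w).mp hw
  have hvi : v⁻¹ = v := inv_eq_of_mul_eq_one_right hvv
  have hvwc : v * w = w * v := h.cen w hw v
  have hwfix : ∀ r ∈ V, r ∈ zpowers v ∨ r * w ∈ zpowers v := fun r hr => by
    by_cases hr' : r ∈ zpowers v
    · exact Or.inl hr'
    · exact Or.inr ((Cfsg.Agent.Sectional.mul_mem_of_card_le (zpowers_le.mpr hv) (by rw [h.cardV, hzv]) hr hr' hw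
        hwv).1)
  -- code for `V`
  let enc : Bool × Bool → T := fun t => (bif t.1 then v else 1) * (bif t.2 then w else 1)
  have enc_mem : ∀ t, enc t ∈ V := by
    rintro ⟨_ | _, _ | _⟩ <;> simp [enc, hv, hw, mul_mem hv hw]
  have e1 : v * (w * v) = w := by rw [← hvwc, ← mul_assoc, hvv, one_mul]
  have e2 : w * (v * w) = v := by rw [hvwc, ← mul_assoc, hww, one_mul]
  have e3 : v * (w * (v * w)) = 1 := by rw [e2, hvv]
  have e4 : v * (v * w) = w := by rw [← mul_assoc, hvv, one_mul]
  have enc_mul : ∀ s t, enc s * enc t = enc (xor s.1 t.1, xor s.2 t.2) := by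
    rintro ⟨_ | _, _ | _⟩ ⟨_ | _, _ | _⟩ <;>
      simp [enc, hvv, hww, ← mul_assoc, ← hvwc] <;>
      simp [mul_assoc, hvv, hww, ← hvwc, e2, e3, e4]
  have w1 : w ≠ 1 := fun e => hwv (e ▸ one_mem _)
  have enc_inj : Function.Injective enc := by
    have key : ∀ t, enc t = 1 → t = (false, false) := by
      rintro ⟨_ | _, _ | _⟩ e <;> simp [enc] at e ⊢
      · exact w1 e
      · exact hv1 e
      · exact hwv (by rw [eq_inv_of_mul_eq_one_right e]; exact inv_mem (mem_zpowers v))
    intro s t e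
    have := key (xor s.1 t.1, xor s.2 t.2) (by rw [← enc_mul, e]; exact (h.mem _).mp (enc_mem t))
    have key2 : ∀ s t : Bool × Bool, (xor s.1 t.1, xor s.2 t.2) = (false, false) → s = t := by decide
    exact key2 s t this
  have enc_surj : ∀ r ∈ V, ∃ t, enc t = r := fun r hr => by
    rcases hwfix r hr with hr' | hr'
    · rcases Cfsg.Agent.Sectional.eq_or_of_mem_zpowers' hvv hr' with e | e
      · exact ⟨(false, false), by simp [enc, e]⟩
      · exact ⟨(true, false), by simp [enc, e]⟩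
    · rcases Cfsg.Agent.Sectional.eq_or_of_mem_zpowers' hvv hr' with e | e
      · exact ⟨(false, true), by simp [enc, eq_inv_of_mul_eq_one_left e, inv_eq_of_mul_eq_one_right hww]⟩
      · exact ⟨(true, true), by simp [enc, ← e, mul_assoc, hww]⟩
  -- four square roots of `v` generating modulo `V`
  have hV4 := h.cardV
  have step : ∀ K : Subgroup T, V ≤ K → Nat.card K < 64 → ∃ r, r * r = v ∧ r ∉ K ∧
      Nat.card (K ⊔ zpowers r : Subgroup T) = 2 * Nat.card K := by
    intro K hVK hK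
    obtain ⟨r, hr, hrK⟩ : ∃ r, r * r = v ∧ r ∉ K := by
      by_contra hc
      push Not at hc
      rw [h.roots_generate hv hv1 K hVK hc, card_top, h.card] at hK
      omega
    refine ⟨r, hr, hrK, le_antisymm ?_ ?_⟩
    · haveI : V.Normal := ⟨fun n hn g => by rw [h.cen n hn g, mul_inv_cancel_right]; exact hn⟩
      set π := QuotientGroup.mk' V
      have hπ : ∀ x, π x = 1 ↔ x ∈ V := fun x => QuotientGroup.eq_one_iff x
      have hc : ∀ k ∈ K.map π, Commute k (π r) := by
        rintro _ ⟨k, -, rfl⟩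
        refine commutatorElement_eq_one_iff_mul_comm.mp ?_
        rw [← map_commutatorElement, hπ]
        exact h.comm_mem k r
      have h1 := Cfsg.Agent.Sectional.card_eq_map_mul π (K ⊔ zpowers r)
      have h2 := Cfsg.Agent.Sectional.card_eq_map_mul π K
      rw [QuotientGroup.ker_mk', inf_eq_right.mpr (hVK.trans le_sup_left)] at h1
      rw [QuotientGroup.ker_mk', inf_eq_right.mpr hVK] at h2
      rw [Subgroup.map_sup, MonoidHom.map_zpowers] at h1
      rw [← h1, ← h2, ← mul_assoc]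
      exact Nat.mul_le_mul_right _ (card_sup_le hc (by rw [← map_mul, hπ]; exact h.sq r))
    · exact PGroup.mul_card_le_of_lt (p := 2) hp
        (lt_of_le_of_ne le_sup_left fun e => hrK (e ▸ mem_sup_right (mem_zpowers r)))
  obtain ⟨r0, q0, n0, c0⟩ := step V le_rfl (by rw [hV4]; norm_num)
  obtain ⟨r1, q1, n1, c1⟩ := step (V ⊔ zpowers r0) le_sup_left (by omega)
  obtain ⟨r2, q2, n2, c2⟩ := step (V ⊔ zpowers r0 ⊔ zpowers r1) (le_sup_left.trans le_sup_left) (by omega)
  obtain ⟨r3, q3, n3, c3⟩ := step (V ⊔ zpowers r0 ⊔ zpowers r1 ⊔ zpowers r2)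
    (le_sup_left.trans (le_sup_left.trans le_sup_left)) (by omega)
  have htop : V ⊔ zpowers r0 ⊔ zpowers r1 ⊔ zpowers r2 ⊔ zpowers r3 = ⊤ :=
    PGroup.eq_of_le_of_card_le le_top (by rw [card_top, h.card]; omega)
  -- normal forms
  have split : ∀ (K : Subgroup T) (r : T), r * r = v → r ∉ K → v ∈ K →
      Nat.card (K ⊔ zpowers r : Subgroup T) = 2 * Nat.card K → ∀ x ∈ K ⊔ zpowers r,
      ∃ k ∈ K, ∃ b : Bool, x = k * (bif b then r else 1) := by
    intro K r hr hrK hvK hc x hx
    by_cases hxK : x ∈ K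
    · exact ⟨x, hxK, false, by simp⟩
    · have hm := (Cfsg.Agent.Sectional.mul_mem_of_card_le le_sup_left hc.le hx hxK (mem_sup_right (mem_zpowers r))
        hrK).1
      refine ⟨x * r * v, mul_mem hm hvK, true, ?_⟩
      calc x = x * (r * r) * v := by rw [hr, mul_assoc, hvv, mul_one]
        _ = x * r * (r * v) := by group
        _ = _ := by rw [h.cen v hv r]; simp [mul_assoc]
  let P : Bool × Bool × Bool × Bool → T := fun a => (bif a.1 then r0 else 1) * (bif a.2.1 then r1 else 1) *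
    (bif a.2.2.1 then r2 else 1) * (bif a.2.2.2 then r3 else 1)
  let F : V × (Bool × Bool × Bool × Bool) → T := fun p => p.1 * P p.2
  have hFs : Function.Surjective F := fun x => by
    have hv' : ∀ {K : Subgroup T}, V ≤ K → v ∈ K := fun hK => hK hv
    obtain ⟨k3, hk3, b3, e3⟩ := split _ r3 q3 n3 (hv' (le_sup_left.trans (le_sup_left.trans le_sup_left))) c3 x
      (htop ▸ mem_top x)
    obtain ⟨k2, hk2, b2, e2⟩ := split _ r2 q2 n2 (hv' (le_sup_left.trans le_sup_left)) c2 k3 hk3
    obtain ⟨k1, hk1, b1, e1⟩ := split _ r1 q1 n1 (hv' le_sup_left) c1 k2 hk2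
    obtain ⟨k0, hk0, b0, e0⟩ := split _ r0 q0 n0 hv c0 k1 hk1
    exact ⟨(⟨k0, hk0⟩, b0, b1, b2, b3), by simp only [F, P]; rw [e3, e2, e1, e0]; group⟩
  have hF : Function.Bijective F := (Nat.bijective_iff_surjective_and_card F).mpr
    ⟨hFs, by rw [Nat.card_prod, hV4, h.card, Nat.card_eq_fintype_card]; rfl⟩
  obtain ⟨⟨c01, b01⟩, h01⟩ := enc_surj _ (h.comm_mem r0 r1)
  obtain ⟨⟨c02, b02⟩, h02⟩ := enc_surj _ (h.comm_mem r0 r2)
  obtain ⟨⟨c03, b03⟩, h03⟩ := enc_surj _ (h.comm_mem r0 r3)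
  obtain ⟨⟨c12, b12⟩, h12⟩ := enc_surj _ (h.comm_mem r1 r2)
  obtain ⟨⟨c13, b13⟩, h13⟩ := enc_surj _ (h.comm_mem r1 r3)
  obtain ⟨⟨c23, b23⟩, h23⟩ := enc_surj _ (h.comm_mem r2 r3)
  let Q : Bool × Bool × Bool × Bool → Bool × Bool := fun a =>
    (form true c01 c02 c03 c12 c13 c23 a, form false b01 b02 b03 b12 b13 b23 a)
  have henc0 : enc (false, false) = 1 := by simp [enc]
  have hencv : enc (true, false) = v := by simp [enc]
  have hP : ∀ a, P a * P a = enc (Q a) := by
    rintro ⟨_ | _, _ | _, _ | _, _ | _⟩ <;>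
      simp only [P, Q, form, cond_true, cond_false, one_mul, mul_one, h.sq_mul, h.comm_mul, q0, q1, q2, q3,
        ← h01, ← h02, ← h03, ← h12, ← h13, ← h23, Bool.and_false, Bool.false_and, Bool.and_true, Bool.true_and,
        Bool.xor_false, Bool.false_xor, commutatorElement_one_left, henc0] <;>
      simp [← hencv, enc_mul, xor_reorder c01 c02 c12 c03 c13 c23, xor_reorder b01 b02 b12 b03 b13 b23]
  have hsqF : ∀ p, F p * F p = enc (Q p.2) := by
    rintro ⟨⟨k, hk⟩, a⟩
    rw [h.sq_mul]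
    have : ⁅k, P a⁆ = 1 := commutatorElement_eq_one_iff_mul_comm.mpr (h.cen k hk (P a)).symm
    rw [show (((⟨k, hk⟩ : V) : T)) = k from rfl, (h.mem k).mp hk, this, one_mul, mul_one, hP]
  have hcount : ∀ t : Bool × Bool, t ≠ (false, false) →
      Fintype.card {a : Bool × Bool × Bool × Bool // Q a = t} = 5 := by
    intro t ht
    have h20 := h.roots (enc t) (enc_mem t) (fun e => ht (enc_inj (e.trans henc0.symm)))
    have e : {p : V × (Bool × Bool × Bool × Bool) // Q p.2 = t} ≃ {x : T // x * x = enc t} :=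
      (Equiv.ofBijective F hF).subtypeEquiv fun p => by
        rw [Equiv.ofBijective_apply, hsqF]
        exact ⟨congrArg enc, fun e => enc_inj e⟩
    have e2 : {p : V × (Bool × Bool × Bool × Bool) // Q p.2 = t} ≃ V × {a : Bool × Bool × Bool × Bool // Q a = t} :=
      { toFun := fun p => (p.1.1, ⟨p.1.2, p.2⟩)
        invFun := fun p => ⟨(p.1, p.2.1), p.2.2⟩
        left_inv := fun p => rfl
        right_inv := fun p => rfl }
    rw [← Nat.card_congr e, Nat.card_congr e2, Nat.card_prod, hV4, Nat.card_eq_fintype_card] at h20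
    omega
  obtain ⟨rfl, rfl, rfl, rfl, rfl, rfl⟩ := table_second b01 b02 b03 b12 b13 b23 (by
    rw [card_split (form false b01 b02 b03 b12 b13 b23) (form true c01 c02 c03 c12 c13 c23)]
    have k1 := hcount (true, true) (by decide)
    have k2 := hcount (false, true) (by decide)
    simp only [Q] at k1 k2
    omega)
  obtain ⟨i, j, k, l, hall, tij, tjk, tkl, tik, til, tjl⟩ := table_first c01 c02 c03 c12 c13 c23 (by
    rw [← hcount (false, true) (by decide)]
    exact Fintype.card_congr (Equiv.subtypeEquivRight fun a => by simp [Q]))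
  let R : Fin 4 → T := ![r0, r1, r2, r3]
  have hR : ∀ i j, i ≠ j → ⁅R i, R j⁆ = enc (tbl c01 c02 c03 c12 c13 c23 i j, true) := by
    have hs : ∀ {x y : T} {t : Bool × Bool}, enc t = ⁅x, y⁆ → ⁅y, x⁆ = enc t := fun {x y t} e => by
      rw [← commutatorElement_inv, ← e, inv_eq_of_mul_eq_one_right ((h.mem _).mp (enc_mem t))]
    intro i j hij
    fin_cases i <;> fin_cases j <;>
      first
        | exact absurd rfl hij
        | exact h01.symm | exact h02.symm | exact h03.symm | exact h12.symm | exact h13.symm | exact h23.symm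
        | exact hs h01 | exact hs h02 | exact hs h03 | exact hs h12 | exact hs h13 | exact hs h23
  have hne4 : i ≠ j ∧ i ≠ k ∧ i ≠ l ∧ j ≠ k ∧ j ≠ l ∧ k ≠ l := by
    have key : ∀ i j k l : Fin 4, (∀ m : Fin 4, m = i ∨ m = j ∨ m = k ∨ m = l) →
        i ≠ j ∧ i ≠ k ∧ i ≠ l ∧ j ≠ k ∧ j ≠ l ∧ k ≠ l := by decide
    exact key i j k l hall
  obtain ⟨nij, nik, nil, njk, njl, nkl⟩ := hne4
  have hvw : enc (true, true) = v * w := by simp [enc]
  have hw' : enc (false, true) = w := by simp [enc]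
  refine ⟨v, w, ![R i, R j, R k, R l], h.cen v hv, h.cen w hw, hvv, hww, ?_, ?_, ?_⟩
  · have : ∀ m, R m * R m = v := by intro m; fin_cases m <;> assumption
    intro m
    fin_cases m <;> exact this _
  · intro a b hab
    fin_cases a <;> fin_cases b <;> first
      | exact absurd hab (by decide)
      | (simp only [pat]; simp [hR, nij, nik, nil, njk, njl, nkl, tij, tjk, tkl, tik, til, tjl, hvw, hw'])
  · intro K hvK hwK hK
    have hV : V ≤ K := fun r hr => by
      obtain ⟨⟨p, q⟩, rfl⟩ := enc_surj r hr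
      cases p <;> cases q <;> simp [enc, hvK, hwK, mul_mem hvK hwK]
    have hRK : ∀ m, R m ∈ K := fun m => by
      rcases hall m with rfl | rfl | rfl | rfl
      · exact hK 0
      · exact hK 1
      · exact hK 2
      · exact hK 3
    rw [eq_top_iff, ← htop]
    exact sup_le (sup_le (sup_le (sup_le hV (zpowers_le.mpr (hRK 0))) (zpowers_le.mpr (hRK 1)))
      (zpowers_le.mpr (hRK 2))) (zpowers_le.mpr (hRK 3))

/-- Uniqueness. -/
theorem nonempty_mulEquiv {T' : Type*} [Group T'] [Finite T'] {V' : Subgroup T'} (h : Sixty T V) (h' : Sixty T' V') :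
    Nonempty (T ≃* T') := by
  obtain ⟨v, w, e, he⟩ := h.exists_pattern
  obtain ⟨v', w', e', he'⟩ := h'.exists_pattern
  exact mulEquiv_of_pattern he he' h.card h'.card

end Cfsg.Agent.SuzukiTwo.SixtyFour
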