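import Cfsg.Agent.Lib.PGroup.UniqueOrderP

/-!
A `p`-group (`p` odd) acting with point stabilisers of constant order on an elementary abelian group
is cyclic and semiregular.
-/

set_option autoImplicit false
set_option linter.unusedSectionVars false

open Subgroup
open scoped commutatorElement

namespace Cfsg.Agent.HalfTrans

variable {P E : Type*} [Group P] [Finite P] [AddCommGroup E] [DistribMulAction P E] {p : ℕ}
  [hp : Fact p.Prime]

/-- The norm of `c`. -/
def nrm (p : ℕ) (c : P) (x : E) : E := ∑ m ∈ Finset.range p, c ^ m • x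

lemma smul_nrm {c : P} (hc : c ^ p = 1) (x : E) : c • nrm p c x = nrm p c x := by
  simp only [nrm, Finset.smul_sum, smul_smul, ← pow_succ']
  have h1 := Finset.sum_range_succ (fun m => c ^ m • x) p
  have h2 := Finset.sum_range_succ' (fun m => c ^ m • x) p
  rw [h1, hc, pow_zero] at h2
  exact (add_right_cancel h2).symm

lemma pow_smul_fixed {c : P} {x : E} (h : c • x = x) : ∀ m : ℕ, c ^ m • x = x := by
  intro m
  induction m with
  | zero => simp
  | succ m ih => rw [pow_succ, mul_smul, h, ih]

lemma nrm_fixed {c : P} {x : E} (h : c • x = x) : nrm p c x = p • x := by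
  simp [nrm, pow_smul_fixed h]

lemma nrm_add (c : P) (x y : E) : nrm p c (x + y) = nrm p c x + nrm p c y := by
  simp [nrm, smul_add, Finset.sum_add_distrib]

lemma smul_comm_nrm {c g : P} (h : g * c = c * g) (x : E) : nrm p c (g • x) = g • nrm p c x := by
  simp only [nrm, Finset.smul_sum, smul_smul]
  exact Finset.sum_congr rfl fun m _ => by rw [((show Commute g c from h).pow_right m).eq]

section

variable [FaithfulSMul P E] (hreg : ∀ x : E, p • x = 0 → x = 0)
  (hconst : ∀ a b : E, a ≠ 0 → b ≠ 0 →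
    Nat.card (MulAction.stabilizer P a) = Nat.card (MulAction.stabilizer P b))

include hreg hconst

lemma stab_sum_eq {a b : E} (ha : a ≠ 0) (hb : b ≠ 0) (hab : a + b ≠ 0)
    (h : ∀ g : P, g • (a + b) = a + b → g • a = a) :
    MulAction.stabilizer P a = MulAction.stabilizer P b := by
  have h1 : MulAction.stabilizer P (a + b) ≤ MulAction.stabilizer P a := fun g hg => h g hg
  have h2 : MulAction.stabilizer P (a + b) ≤ MulAction.stabilizer P b := by
    intro g hg
    have hg1 : g • a = a := h g hg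
    have hg2 : g • (a + b) = a + b := hg
    rw [smul_add, hg1] at hg2
    exact add_left_cancel hg2
  rw [← PGroup.eq_of_le_of_card_le h1 (hconst a (a + b) ha hab).le,
    ← PGroup.eq_of_le_of_card_le h2 (hconst b (a + b) hb hab).le]

/-- A central element of order `p` fixes only `0`. -/
lemma central_semiregular {c : P} (hc : c ∈ center P) (hcp : c ^ p = 1) (hc1 : c ≠ 1) (a : E)
    (h : c • a = a) : a = 0 := by
  by_contra ha
  refine hc1 (eq_of_smul_eq_smul fun x : E => ?_)
  rw [one_smul]
  -- `p • x - nrm c x` is killed by the norm; it is shown to be `0`.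
  have key : p • x - nrm p c x = 0 := by
    set y := p • x - nrm p c x with hy
    have hy0 : nrm p c y = 0 := by
      have e : nrm p c (p • x) = p • nrm p c x := by simp [nrm, Finset.smul_sum, smul_comm _ p]
      have e2 := nrm_add (p := p) c y (nrm p c x)
      rw [hy, sub_add_cancel, e, nrm_fixed (smul_nrm hcp x)] at e2
      exact right_eq_add.1 e2
    by_contra hyne
    have hab : a + y ≠ 0 := by
      intro h0
      have h1 := congrArg (nrm p c) h0
      rw [nrm_add, nrm_fixed h, hy0, add_zero, nrm_fixed (smul_zero c), smul_zero] at h1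
      exact ha (hreg a h1)
    have heq := stab_sum_eq hreg hconst ha hyne hab (fun g hg => by
      have h1 := congrArg (nrm p c) hg
      rw [smul_comm_nrm (mem_center_iff.1 hc g), nrm_add, nrm_fixed h, hy0, add_zero] at h1
      have h2 : p • (g • a - a) = 0 := by
        rw [smul_sub, ← smul_comm g p a, h1, sub_self]
      exact sub_eq_zero.1 (hreg _ h2))
    have hcy : c ∈ MulAction.stabilizer P y := heq ▸ (h : c ∈ MulAction.stabilizer P a)
    rw [nrm_fixed hcy] at hy0
    exact hyne (hreg y hy0)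
  have h2 : p • (c • x - x) = 0 := by
    rw [smul_sub, ← smul_comm c p x, sub_eq_zero.1 key, smul_nrm hcp, sub_self]
  exact sub_eq_zero.1 (hreg _ h2)

theorem isCyclic_of_const (hp2 : p ≠ 2) (hP : IsPGroup p P) [Nontrivial E] : IsCyclic P := by
  classical
  by_contra hnc
  haveI : (⊤ : Subgroup P).Normal := inferInstance
  obtain ⟨A, -, hAn, ⟨hAc, hAe⟩, hAcard⟩ := PGroup.exists_normal_elementary_sq (p := p) hp2 hP
    (S := (⊤ : Subgroup P)) (fun h => hnc (isCyclic_of_surjective
      (Subgroup.topEquiv (G := P)).toMonoidHom (Subgroup.topEquiv (G := P)).surjective))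
  haveI := hAn
  have hcomm : ∀ {x y}, x ∈ A → y ∈ A → x * y = y * x := fun hx hy =>
    congrArg Subtype.val (hAc.is_comm.comm ⟨_, hx⟩ ⟨_, hy⟩)
  have hA0 : A ≠ ⊥ := fun h => by
    rw [h, card_bot] at hAcard
    nlinarith [hp.out.two_le]
  obtain ⟨z, hzA, hzc, hzo, hD⟩ : ∃ z ∈ A, z ∈ center P ∧ orderOf z = p ∧
      ⁅A, (⊤ : Subgroup P)⁆ ≤ zpowers z := by
    by_cases hD : ⁅A, (⊤ : Subgroup P)⁆ = ⊥
    · obtain ⟨z, h1, h2, h3⟩ := PGroup.exists_central_order_p (p := p) hP hA0
      exact ⟨z, h1, h2, h3, by rw [hD]; exact bot_le⟩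
    · obtain ⟨z, h1, h2, h3⟩ := PGroup.exists_central_order_p (p := p) hP hD
      have hlt := PGroup.commutator_lt_of_ne_bot (p := p) hP hA0
      refine ⟨z, hlt.le h1, h2, h3, ?_⟩
      have hle := PGroup.mul_card_le_of_lt hP hlt
      rw [hAcard, pow_two] at hle
      have := PGroup.eq_of_le_of_card_le (zpowers_le.2 h1)
        (by rw [Nat.card_zpowers, h3]; exact Nat.le_of_mul_le_mul_left hle hp.out.pos)
      exact this.ge
  have hzp : z ^ p = 1 := hzo ▸ pow_orderOf_eq_one z
  obtain ⟨b, hbA, hbz⟩ : ∃ b ∈ A, b ∉ zpowers z := by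
    by_contra hcon
    simp only [not_exists, not_and, not_not] at hcon
    have := card_le_of_le (show A ≤ zpowers z from hcon)
    rw [Nat.card_zpowers, hzo, hAcard] at this
    nlinarith [hp.out.two_le]
  have hwp : ∀ {w}, w ∈ zpowers z → w ^ p = 1 := fun hw => by
    obtain ⟨k, rfl⟩ := mem_zpowers_iff.1 hw
    rw [← zpow_natCast, ← zpow_mul, mul_comm, zpow_mul, zpow_natCast, hzp, one_zpow]
  have hwc : ∀ {w}, w ∈ zpowers z → w ∈ center P := fun hw => zpowers_le.2 hzc hw
  have hwfix : ∀ {w}, w ∈ zpowers z → w ≠ 1 → ∀ x : E, w • x = x → x = 0 := fun hw hw1 =>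
    central_semiregular hreg hconst (hwc hw) (hwp hw) hw1
  have hbw : ∀ {w}, w ∈ zpowers z → (b * w) ^ p = 1 := fun {w} hw => by
    rw [Commute.mul_pow (mem_center_iff.1 (hwc hw) b), hwp hw, hAe b hbA, one_mul]
  -- the norm of `b * u` kills the fixed points of `b * w` for `u ≠ w`
  have hkill : ∀ {u w}, u ∈ zpowers z → w ∈ zpowers z → u ≠ w → ∀ x : E, (b * w) • x = x →
      nrm p (b * u) x = 0 := by
    intro u w hu hw huw x hx
    have he : w⁻¹ * u ∈ zpowers z := mul_mem (inv_mem hw) hu
    have e1 : nrm p (b * u) x = nrm p (w⁻¹ * u) x := by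
      simp only [nrm]
      refine Finset.sum_congr rfl fun m _ => ?_
      have ebu : b * u = w⁻¹ * u * (b * w) := by
        rw [← mem_center_iff.1 (hwc he) (b * w)]; group
      rw [ebu, Commute.mul_pow (show Commute (w⁻¹ * u) (b * w) from
        (mem_center_iff.1 (hwc he) (b * w)).symm), mul_smul, pow_smul_fixed hx]
    rw [e1]
    exact hwfix he (fun h => huw (inv_mul_eq_one.1 h).symm) _ (smul_nrm (hwp he) x)
  -- some `b * w` has a non-zero fixed point
  obtain ⟨w₀, hw₀, a, ha, hafix⟩ : ∃ w ∈ zpowers z, ∃ a : E, a ≠ 0 ∧ (b * w) • a = a := by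
    by_contra hcon
    simp only [not_exists, not_and] at hcon
    obtain ⟨x, hx⟩ := exists_ne (0 : E)
    have hN : ∀ i : ℕ, nrm p (b * z ^ i) x = 0 := fun i => by
      by_contra h0
      exact hcon _ (pow_mem (mem_zpowers z) i) _ h0 (smul_nrm (hbw (pow_mem (mem_zpowers z) i)) x)
    have h0 : ∑ i ∈ Finset.range p, nrm p (b * z ^ i) x = 0 := Finset.sum_eq_zero fun i _ => hN i
    simp only [nrm] at h0
    rw [Finset.sum_comm] at h0
    have hm : ∀ m ∈ Finset.range p, m ≠ 0 →
        ∑ i ∈ Finset.range p, (b * z ^ i) ^ m • x = 0 := by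
      intro m hm hm0
      have e : ∑ i ∈ Finset.range p, (b * z ^ i) ^ m • x = b ^ m • nrm p (z ^ m) x := by
        simp only [nrm, Finset.smul_sum, smul_smul]
        refine Finset.sum_congr rfl fun i _ => ?_
        rw [Commute.mul_pow (mem_center_iff.1 (hwc (pow_mem (mem_zpowers z) i)) b), ← pow_mul,
          ← pow_mul, mul_comm i m]
      have hne : z ^ m ≠ 1 := fun h => by
        have hd := orderOf_dvd_of_pow_eq_one h
        rw [hzo] at hd
        exact absurd (Nat.le_of_dvd (Nat.pos_of_ne_zero hm0) hd) (not_le.2 (Finset.mem_range.1 hm))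
      rw [e, hwfix (pow_mem (mem_zpowers z) m) hne _ (smul_nrm (hwp (pow_mem (mem_zpowers z) m)) x),
        smul_zero]
    rw [Finset.sum_eq_single 0 hm (fun h => absurd (Finset.mem_range.2 hp.out.pos) h)] at h0
    simp only [pow_zero, one_smul, Finset.sum_const, Finset.card_range] at h0
    exact hx (hreg x h0)
  set c := b * w₀ with hc
  have hcA : c ∈ A := mul_mem hbA (zpowers_le.2 hzA hw₀)
  have hcz : c ∉ zpowers z := fun h => hbz (by
    have := mul_mem h (inv_mem hw₀)
    rwa [hc, mul_inv_cancel_right] at this)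
  have hc1 : c ≠ 1 := fun h => hcz (h ▸ one_mem _)
  have hcp : c ^ p = 1 := hAe c hcA
  have hkill' : ∀ {u w}, u ∈ zpowers z → w ∈ zpowers z → u ≠ w → ∀ x : E, (c * w) • x = x →
      nrm p (c * u) x = 0 := fun {u w} hu hw huw x hx => by
    rw [hc, mul_assoc] at hx ⊢
    exact hkill (mul_mem hw₀ hu) (mul_mem hw₀ hw) (fun h => huw (mul_left_cancel h)) x hx
  let W : P → P := fun g => c⁻¹ * (g * c * g⁻¹)
  have hW : ∀ g, W g ∈ zpowers z := fun g => by
    have h := hD (Subgroup.commutator_mem_commutator (inv_mem hcA) (mem_top g))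
    rwa [commutatorElement_def, inv_inv, mul_assoc, mul_assoc, ← mul_assoc g] at h
  have hWc : ∀ g, g * c * g⁻¹ = c * W g := fun g => (mul_inv_cancel_left c _).symm
  obtain ⟨g₀, hg₀⟩ : ∃ g, W g ≠ 1 := by
    by_contra hcon
    simp only [not_exists, not_not] at hcon
    refine ha (central_semiregular hreg hconst (mem_center_iff.2 fun g => ?_) hcp hc1 a hafix)
    have := hWc g
    rw [hcon g, mul_one] at this
    exact mul_inv_eq_iff_eq_mul.1 this
  have hfix : ∀ g, (c * W g) • (g • a) = g • a := fun g => by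
    rw [← hWc, smul_smul, inv_mul_cancel_right, mul_smul, hafix]
  have hWmul : ∀ g h, W (g * h) = W g * W h := fun g h => by
    have e : g * h * c * (g * h)⁻¹ = c * (W g * W h) := by
      calc g * h * c * (g * h)⁻¹ = g * (h * c * h⁻¹) * g⁻¹ := by group
        _ = g * (c * W h) * g⁻¹ := by rw [hWc]
        _ = g * c * (g⁻¹ * W h) := by rw [mem_center_iff.1 (hwc (hW h)) g⁻¹]; group
        _ = _ := by rw [← mul_assoc, hWc, mul_assoc]
    rw [hWc] at e
    exact mul_left_cancel e
  set a' := g₀ • a with ha'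
  have ha'0 : a' ≠ 0 := fun h => ha ((smul_eq_zero_iff_eq g₀).1 h)
  have hN1 : nrm p (c * 1) a' = 0 := hkill' (one_mem _) (hW g₀) (Ne.symm hg₀) a' (hfix g₀)
  have hNk : nrm p (c * W g₀) a = 0 := hkill' (hW g₀) (one_mem _) hg₀ a (by rwa [mul_one])
  have hNa : nrm p (c * 1) a = p • a := nrm_fixed (by rwa [mul_one])
  have hNa' : nrm p (c * W g₀) a' = p • a' := nrm_fixed (hfix g₀)
  have haa : a + a' ≠ 0 := by
    intro h0
    have h1 := congrArg (nrm p (c * 1)) h0
    rw [nrm_add, hNa, hN1, add_zero, nrm_fixed (smul_zero _), smul_zero] at h1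
    exact ha (hreg a h1)
  have hst := stab_sum_eq hreg hconst ha ha'0 haa (fun g hg => by
    have hg' : g • a + g • a' = a + a' := by rwa [smul_add] at hg
    have hga' : (c * (W g * W g₀)) • (g • a') = g • a' := by
      rw [ha', ← hWmul, ← mul_smul g g₀ a]; exact hfix _
    have hwg : W g = 1 := by
      by_contra hne
      have hp0 : W g * W g₀ = 1 := by
        by_contra hne2
        have h1 := congrArg (nrm p (c * 1)) hg'
        rw [nrm_add, nrm_add, hkill' (one_mem _) (hW g) (Ne.symm hne) _ (hfix g),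
          hkill' (one_mem _) (mul_mem (hW g) (hW g₀)) (Ne.symm hne2) _ hga', hNa, hN1, add_zero,
          add_zero] at h1
        exact ha (hreg a h1.symm)
      have hk : W g = W g₀ := by
        by_contra hne3
        have h1 := congrArg (nrm p (c * W g₀)) hg'
        rw [nrm_add, nrm_add, hkill' (hW g₀) (hW g) (Ne.symm hne3) _ (hfix g),
          hkill' (hW g₀) (mul_mem (hW g) (hW g₀)) (fun h => hne (right_eq_mul.1 h)) _ hga', hNk,
          hNa', add_zero, zero_add] at h1
        exact ha'0 (hreg a' h1.symm)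
      rw [hk, ← pow_two] at hp0
      have h2 := orderOf_dvd_of_pow_eq_one hp0
      have hp' := orderOf_dvd_of_pow_eq_one (hwp (hW g₀))
      rcases (Nat.dvd_prime hp.out).1 hp' with h | h
      · exact hg₀ (orderOf_eq_one_iff.1 h)
      · rw [h] at h2
        exact hp2 ((Nat.prime_dvd_prime_iff_eq hp.out Nat.prime_two).1 h2)
    have h1 := congrArg (nrm p (c * 1)) hg'
    have hga : (c * 1) • (g • a) = g • a := by rw [← hwg]; exact hfix g
    rw [nrm_add, nrm_add, nrm_fixed hga, hNa, hN1,
      hkill' (one_mem _) (mul_mem (hW g) (hW g₀)) (by rw [hwg, one_mul]; exact Ne.symm hg₀) _ hga',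
      add_zero, add_zero] at h1
    exact sub_eq_zero.1 (hreg _ (by rw [smul_sub, h1, sub_self])))
  have hca' : c • a' = a' := (show c ∈ MulAction.stabilizer P a' from
    hst ▸ (hafix : c ∈ MulAction.stabilizer P a))
  rw [nrm_fixed (by rwa [mul_one])] at hN1
  exact ha'0 (hreg a' hN1)

end

omit hp in
lemma eq_of_card_eq_of_isCyclic [IsCyclic P] {H K : Subgroup P} (h : Nat.card H = Nat.card K) :
    H = K := by
  classical
  letI := Fintype.ofFinite P
  have key : ∀ L : Subgroup P,
      Finset.univ.filter (fun x => x ∈ L) = Finset.univ.filter (fun x : P => x ^ Nat.card L = 1) := by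
    intro L
    refine Finset.eq_of_subset_of_card_le (fun x hx => ?_) ?_
    · simp only [Finset.mem_filter, Finset.mem_univ, true_and] at hx ⊢
      exact congrArg Subtype.val (pow_card_eq_one' (x := (⟨x, hx⟩ : L)))
    · refine (IsCyclic.card_pow_eq_one_le Nat.card_pos).trans (le_of_eq ?_)
      rw [← Fintype.card_subtype, Nat.card_eq_fintype_card]
  ext x
  have h1 := Finset.ext_iff.1 (key H) x
  have h2 := Finset.ext_iff.1 (key K) x
  simp only [Finset.mem_filter, Finset.mem_univ, true_and] at h1 h2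
  rw [h1, h2, h]

end Cfsg.Agent.HalfTrans
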