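import Cfsg.Agent.Lib.SuzukiTwo.Order

/-!
A Suzuki 2-group of order `q²` is of type A.
-/

set_option autoImplicit false

open scoped commutatorElement

namespace Cfsg.Agent.SuzukiTwo

variable {F : Type} [Field F] [Fintype F] [CharP F 2]

/-- An automorphism `φ` with `φ (φ u) = u → φ u = u` has odd order. -/
lemma odd_orderOf_of_fixed (φ : F ≃+* F) (h : ∀ u, φ (φ u) = u → φ u = u) : Odd (orderOf φ) := by
  classical
  haveI : Finite (F ≃+* F) := Finite.of_injective (fun σ : F ≃+* F => (σ : F → F)) DFunLike.coe_injective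
  by_contra he
  rw [Nat.not_odd_iff_even] at he
  obtain ⟨k, hk⟩ := he
  have hpos : 0 < orderOf φ := orderOf_pos φ
  letI : Fintype (Subgroup.zpowers φ) := Fintype.ofFinite _
  letI : Fintype (Subgroup.zpowers (φ ^ 2)) := Fintype.ofFinite _
  have e : FixedPoints.subfield (Subgroup.zpowers φ) F =
      FixedPoints.subfield (Subgroup.zpowers (φ ^ 2)) F := by
    refine le_antisymm (fun x hx g => ?_) (fun x hx g => ?_)
    · obtain ⟨m, hm⟩ := Subgroup.mem_zpowers_iff.1 g.2
      have := hx ⟨g.1, by rw [← hm]; exact zpow_mem (pow_mem (Subgroup.mem_zpowers φ) 2) m⟩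
      exact this
    · have h2 := hx ⟨φ ^ 2, Subgroup.mem_zpowers _⟩
      have h1 : φ • x = x := h x h2
      obtain ⟨m, hm⟩ := Subgroup.mem_zpowers_iff.1 g.2
      have hs : φ ∈ MulAction.stabilizer (F ≃+* F) x := h1
      show g.1 • x = x
      rw [← hm]
      exact zpow_mem hs m
  have h1 := FixedPoints.finrank_eq_card (Subgroup.zpowers φ) F
  have h2 := FixedPoints.finrank_eq_card (Subgroup.zpowers (φ ^ 2)) F
  rw [e, h2] at h1
  simp only [← Nat.card_eq_fintype_card, Nat.card_zpowers, orderOf_pow, hk] at h1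
  rw [Nat.gcd_eq_right ⟨k, by ring⟩] at h1
  omega

section Model

variable (φ : F →+* F)

/-- The element of type A with coordinates `(x, y)`. -/
noncomputable def tA (x y : F) : GL (Fin 3) F where
  val := !![1, 0, 0; x, 1, 0; y, φ x, 1]
  inv := !![1, 0, 0; x, 1, 0; y + φ x * x, φ x, 1]
  val_inv := by
    ext i j
    have t0 : ∀ a : F, a + a = 0 := CharTwo.add_self_eq_zero
    fin_cases i <;> fin_cases j <;> simp [Matrix.mul_apply, Fin.sum_univ_three, t0]
  inv_val := by
    ext i j
    have t0 : ∀ a : F, a + a = 0 := CharTwo.add_self_eq_zero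
    fin_cases i <;> fin_cases j <;> simp [Matrix.mul_apply, Fin.sum_univ_three, t0]
    linear_combination t0 y + t0 (φ x * x)

lemma coe_tA (x y : F) :
    ((tA φ x y : GL (Fin 3) F) : Matrix (Fin 3) (Fin 3) F) = !![1, 0, 0; x, 1, 0; y, φ x, 1] := rfl

lemma tA_mul (x y x' y' : F) : tA φ x y * tA φ x' y' = tA φ (x + x') (y + y' + φ x * x') := by
  refine Units.ext ?_
  rw [Units.val_mul, coe_tA, coe_tA, coe_tA]
  ext i j
  fin_cases i <;> fin_cases j <;> simp [Matrix.mul_apply, Fin.sum_univ_three] <;> ring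

lemma tA_zero : tA φ 0 0 = 1 := by
  refine Units.ext ?_
  rw [coe_tA, Units.val_one]
  ext i j
  fin_cases i <;> fin_cases j <;> simp

lemma tA_inj {x y x' y' : F} (h : tA φ x y = tA φ x' y') : x = x' ∧ y = y' := by
  have h' := congrArg (fun g : GL (Fin 3) F => (g : Matrix (Fin 3) (Fin 3) F)) h
  simp only [coe_tA] at h'
  have e1 := congrFun (congrFun h' 1) 0
  have e2 := congrFun (congrFun h' 2) 0
  simp at e1 e2
  exact ⟨e1, e2⟩

lemma tA_inv (x y : F) : (tA φ x y)⁻¹ = tA φ x (y + φ x * x) := Units.ext rfl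

lemma tA_mem (x y : F) : tA φ x y ∈ Cfsg.suzukiTypeA F φ :=
  Subgroup.subset_closure ⟨x, y, coe_tA φ x y⟩

lemma exists_tA {g : GL (Fin 3) F} (hg : g ∈ Cfsg.suzukiTypeA F φ) : ∃ x y, g = tA φ x y := by
  rw [Cfsg.suzukiTypeA] at hg
  induction hg using Subgroup.closure_induction with
  | mem g hg =>
    obtain ⟨x, y, h⟩ := hg
    exact ⟨x, y, Units.ext (by rw [coe_tA]; exact h)⟩
  | one => exact ⟨0, 0, (tA_zero φ).symm⟩
  | mul a b _ _ ha hb =>
    obtain ⟨x, y, rfl⟩ := ha
    obtain ⟨x', y', rfl⟩ := hb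
    exact ⟨_, _, tA_mul φ x y x' y'⟩
  | inv a _ ha =>
    obtain ⟨x, y, rfl⟩ := ha
    exact ⟨_, _, tA_inv φ x y⟩

/-- The element of `suzukiTypeA` with coordinates `(x, y)`. -/
noncomputable def tB (x y : F) : Cfsg.suzukiTypeA F φ := ⟨tA φ x y, tA_mem φ x y⟩

lemma tB_mul (x y x' y' : F) : tB φ x y * tB φ x' y' = tB φ (x + x') (y + y' + φ x * x') :=
  Subtype.ext (tA_mul φ x y x' y')

lemma tB_zero : tB φ 0 0 = 1 := Subtype.ext (tA_zero φ)

lemma exists_tB (t : Cfsg.suzukiTypeA F φ) : ∃ x y, t = tB φ x y := by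
  obtain ⟨x, y, h⟩ := exists_tA φ t.2
  exact ⟨x, y, Subtype.ext h⟩

/-- A central extension of `F` by `F` with the same squaring map as type A is of type A. -/
theorem mulEquiv_suzukiTypeA {P : Type*} [Group P] [Finite P] (X : P → F)
    (hX : ∀ p r, X (p * r) = X p + X r) (hXs : Function.Surjective X) (v : F → P)
    (hv : ∀ a b, v (a + b) = v a * v b) (hv1 : Function.Injective v) (hvX : ∀ p, X p = 0 ↔ ∃ y, p = v y)
    (hcen : ∀ y p, p * v y = v y * p) (hsq : ∀ p, p * p = v (φ (X p) * X p))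
    (hcom : ∀ p r, ⁅p, r⁆ = v (φ (X p) * X r + φ (X r) * X p)) :
    Nonempty (P ≃* Cfsg.suzukiTypeA F φ) := by
  classical
  have t0 : ∀ a : F, a + a = 0 := CharTwo.add_self_eq_zero
  have hv0 : v 0 = 1 := mul_left_cancel (a := v 0) (by rw [← hv, add_zero, mul_one])
  have hXv : ∀ y, X (v y) = 0 := fun y => (hvX _).2 ⟨y, rfl⟩
  haveI : Finite (GL (Fin 3) F) := inferInstance
  let T := Cfsg.suzukiTypeA F φ
  let Good : Subgroup (P × T) → Prop := fun K =>
    (∀ y, (v y, tB φ 0 y) ∈ K) ∧ (∀ k ∈ K, ∀ x y, k.2 = tB φ x y → X k.1 = x) ∧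
      ∀ k ∈ K, k.2 = 1 → k.1 = 1
  have hinj : ∀ {x y x' y'}, tB φ x y = tB φ x' y' → x = x' ∧ y = y' :=
    fun h => tA_inj φ (congrArg Subtype.val h)
  let N : Subgroup (P × T) :=
    { carrier := {k | ∃ y, k = (v y, tB φ 0 y)}
      one_mem' := ⟨0, Prod.ext hv0.symm (tB_zero φ).symm⟩
      mul_mem' := by
        rintro _ _ ⟨a, rfl⟩ ⟨b, rfl⟩
        exact ⟨a + b, Prod.ext (hv a b).symm (by simp [tB_mul])⟩
      inv_mem' := by
        rintro _ ⟨a, rfl⟩
        refine ⟨a, inv_eq_of_mul_eq_one_left (Prod.ext ?_ ?_)⟩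
        · show v a * v a = 1
          rw [← hv, t0, hv0]
        · show tB φ 0 a * tB φ 0 a = 1
          rw [tB_mul, ← tB_zero φ]; simp [t0] }
  have hN : Good N := by
    refine ⟨fun y => ⟨y, rfl⟩, ?_, ?_⟩
    · rintro _ ⟨a, rfl⟩ x y h
      rw [← (hinj h).1]; exact hXv a
    · rintro _ ⟨a, rfl⟩ h
      have h' : tB φ 0 a = tB φ 0 0 := by rw [tB_zero]; exact h
      show v a = 1
      rw [(hinj h').2, hv0]
  obtain ⟨K, hK, hmax⟩ := Set.Finite.exists_maximal (Set.toFinite {K | Good K}) ⟨N, hN⟩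
  obtain ⟨hKN, hKX, hK1⟩ := hK
  have hsurj : ∀ p : P, ∃ k ∈ K, X k.1 = X p := by
    intro p
    by_contra hne
    simp only [not_exists, not_and] at hne
    let h : P × T := (p, tB φ (X p) 0)
    have hh : h * h ∈ K := by
      have := hKN (φ (X p) * X p)
      convert this using 1
      refine Prod.ext (hsq p) ?_
      show tB φ (X p) 0 * tB φ (X p) 0 = _
      rw [tB_mul, t0]; simp
    have hconj : ∀ k ∈ K, h * k * h⁻¹ ∈ K := by
      intro k hk
      obtain ⟨x, y, hxy⟩ := exists_tB φ k.2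
      have e : h * k * h⁻¹ = (v (φ (X p) * x + φ x * X p), tB φ 0 (φ (X p) * x + φ x * X p)) * k := by
        refine Prod.ext ?_ ?_
        · show p * k.1 * p⁻¹ = v _ * k.1
          rw [← hKX k hk x y hxy, ← hcom, commutatorElement_def]
          group
        · show tB φ (X p) 0 * k.2 * (tB φ (X p) 0)⁻¹ = tB φ 0 _ * k.2
          rw [mul_inv_eq_iff_eq_mul, hxy, tB_mul, tB_mul, tB_mul]
          congr 1
          · ring
          · simp only [map_zero, zero_mul, zero_add, add_zero]
            linear_combination - t0 (φ x * X p)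
      rw [e]
      exact mul_mem (hKN _) hk
    have hconj' : ∀ k ∈ K, h⁻¹ * k * h ∈ K := by
      intro k hk
      have e : h⁻¹ * k * h = (h * h)⁻¹ * (h * k * h⁻¹) * (h * h) := by group
      rw [e]
      exact mul_mem (mul_mem (inv_mem hh) (hconj k hk)) hh
    let K' : Subgroup (P × T) :=
      { carrier := {a | a ∈ K ∨ a * h ∈ K}
        one_mem' := Or.inl (one_mem _)
        mul_mem' := by
          rintro a b (ha | ha) (hb | hb)
          · exact Or.inl (mul_mem ha hb)
          · refine Or.inr ?_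
            rw [mul_assoc]; exact mul_mem ha hb
          · refine Or.inr ?_
            rw [show a * b * h = a * h * (h⁻¹ * b * h) by group]
            exact mul_mem ha (hconj' b hb)
          · refine Or.inl ?_
            rw [show a * b = a * h * (h⁻¹ * (b * h) * h) * (h * h)⁻¹ by group]
            exact mul_mem (mul_mem ha (hconj' _ hb)) (inv_mem hh)
        inv_mem' := by
          rintro a (ha | ha)
          · exact Or.inl (inv_mem ha)
          · refine Or.inr ?_
            rw [show a⁻¹ * h = h * (a * h)⁻¹ * h⁻¹ * (h * h) by group]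
            exact mul_mem (hconj _ (inv_mem ha)) hh }
    have hX1 : X 1 = 0 := by simpa [hv0] using hXv 0
    have hsplit : ∀ a, a * h ∈ K → ∀ x y, a.2 = tB φ x y → X a.1 = x ∧ x ≠ 0 := by
      intro a ha x y hxy
      have h1 := hKX (a * h) ha (x + X p) (y + 0 + φ x * X p) (by
        show a.2 * tB φ (X p) 0 = _
        rw [hxy, tB_mul])
      rw [show (a * h).1 = a.1 * p from rfl, hX] at h1
      have h1' := add_right_cancel h1
      refine ⟨h1', fun hx0 => hne (a * h) ha ?_⟩
      show X (a.1 * p) = X p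
      rw [hX, h1', hx0, zero_add]
    have hK' : Good K' := by
      refine ⟨fun y => Or.inl (hKN y), ?_, ?_⟩
      · rintro a (ha | ha) x y hxy
        · exact hKX a ha x y hxy
        · exact (hsplit a ha x y hxy).1
      · rintro a (ha | ha) h2
        · exact hK1 a ha h2
        · exact absurd rfl (hsplit a ha 0 0 (h2.trans (tB_zero φ).symm)).2
    have hle : K ≤ K' := fun a ha => Or.inl ha
    have hhK : h ∈ K' := Or.inr hh
    exact hne h (hmax hK' hle hhK) rfl
  let f : K →* P := (MonoidHom.fst P T).comp K.subtype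
  let g : K →* T := (MonoidHom.snd P T).comp K.subtype
  have hg : Function.Injective g := by
    refine (injective_iff_map_eq_one g).2 fun k hk => ?_
    exact Subtype.ext (Prod.ext (hK1 k.1 k.2 hk) hk)
  have hf : Function.Injective f := by
    refine (injective_iff_map_eq_one f).2 fun k hk => ?_
    obtain ⟨x, y, hxy⟩ := exists_tB φ k.1.2
    have hx := hKX k.1 k.2 x y hxy
    have hk' : k.1.1 = 1 := hk
    rw [hk'] at hx
    have hX1 : X 1 = 0 := by simpa [hv0] using hXv 0
    rw [hX1] at hx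
    subst hx
    have h2 : k.1 * (v y, tB φ 0 y) ∈ K := mul_mem k.2 (hKN y)
    have h3 := hK1 _ h2 (by show k.1.2 * tB φ 0 y = 1; rw [hxy, tB_mul, ← tB_zero φ]; simp [t0])
    have hy : y = 0 := hv1 (by rw [hv0, ← h3]; show v y = k.1.1 * v y; rw [hk', one_mul])
    subst hy
    exact Subtype.ext (Prod.ext hk' (hxy.trans (tB_zero φ)))
  have hfs : Function.Surjective f := by
    intro p
    obtain ⟨k, hk, hkX⟩ := hsurj p
    have h0 : X (k.1⁻¹ * p) = 0 := by
      have := hX k.1 (k.1⁻¹ * p)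
      rw [mul_inv_cancel_left, hkX] at this
      linear_combination -this
    obtain ⟨y, hy⟩ := (hvX _).1 h0
    exact ⟨⟨k * (v y, tB φ 0 y), mul_mem hk (hKN y)⟩, by
      show k.1 * v y = p
      rw [← hy, mul_inv_cancel_left]⟩
  have hgs : Function.Surjective g := by
    intro t
    obtain ⟨x, z, rfl⟩ := exists_tB φ t
    obtain ⟨p, rfl⟩ := hXs x
    obtain ⟨k, hk, hkX⟩ := hsurj p
    obtain ⟨x', y', hxy⟩ := exists_tB φ k.2
    have hx' := hKX k hk x' y' hxy
    rw [hkX] at hx'
    subst hx'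
    exact ⟨⟨k * (v (z + y'), tB φ 0 (z + y')), mul_mem hk (hKN _)⟩, by
      show k.2 * tB φ 0 (z + y') = _
      rw [hxy, tB_mul]
      congr 1
      · ring
      · linear_combination t0 y'⟩
  exact ⟨(MulEquiv.ofBijective f ⟨hf, hfs⟩).symm.trans (MulEquiv.ofBijective g ⟨hg, hgs⟩)⟩

end Model

namespace SuzData

variable {P : Type*} [Group P] (d : SuzData P F)
include d

lemma quad_one : d.quad 1 = 0 := by rw [← QuotientGroup.mk_one, d.quad_mk, one_mul, d.ι_one]

/-- Coordinates on `P ⧸ Z(P)` in which the squaring map is `x ↦ c * x * φ x`. -/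
lemma exists_typeA_form (hcard : Nat.card P = Nat.card (Subgroup.center P) ^ 2) :
    ∃ (X : P → F) (φ : F ≃+* F) (c : F), c ≠ 0 ∧ (∀ p r, X (p * r) = X p + X r) ∧
      Function.Surjective X ∧ (∀ p, X p = 0 ↔ p * p = 1) ∧
      (∀ p, d.ι (p * p) = c * (φ (X p) * X p)) ∧
      Function.Injective fun x : F => φ x * x := by
  classical
  haveI := d.finite
  let U := P ⧸ Subgroup.center P
  have hUsq : ∀ u : U, u * u = 1 := fun u => by
    induction u using QuotientGroup.induction_on with | H p => ?_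
    rw [← QuotientGroup.mk_mul, QuotientGroup.eq_one_iff, d.center_eq_V]
    exact d.sq_mem_V p
  have hUcomm : ∀ u w : U, u * w = w * u := fun u w => by
    have h := hUsq (u * w)
    have h1 : ∀ a : U, a⁻¹ = a := fun a => inv_eq_of_mul_eq_one_left (hUsq a)
    rw [← h1 (u * w), mul_inv_rev, h1, h1]
  letI : CommGroup U := { (inferInstance : Group U) with mul_comm := hUcomm }
  have hV : Nat.card (Subgroup.center P) = Nat.card F := by rw [d.center_eq_V, d.card_V]
  have hcU : Nat.card U = Nat.card F := by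
    have h := Subgroup.card_eq_card_quotient_mul_card_subgroup (Subgroup.center P)
    rw [hcard, pow_two, hV] at h
    exact (Nat.eq_of_mul_eq_mul_right Nat.card_pos h).symm
  have hU1 : ∃ u₀ : U, u₀ ≠ 1 := by
    by_contra hc
    simp only [not_exists, not_not] at hc
    haveI : Subsingleton U := ⟨fun a b => by rw [hc a, hc b]⟩
    have : Nat.card U = 1 := Nat.card_of_subsingleton 1
    rw [hcU] at this
    have h1 : 1 < Nat.card F := Finite.one_lt_card
    omega
  obtain ⟨u₀, hu₀⟩ := hU1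
  have hq0 : d.quad u₀ ≠ 0 := fun h => hu₀ (d.quad_eq_zero h)
  let E : AddMonoid.End (Additive U) := MonoidHom.toAdditive d.gbar
  have hEpow : ∀ (j : ℕ) (w : Additive U),
      d.quad ((E ^ j) w).toMul = d.ω ^ j * d.quad w.toMul := by
    intro j
    induction j with
    | zero => intro w; simp
    | succ j ih =>
      intro w
      rw [pow_succ', pow_succ', mul_assoc, ← ih w]
      exact d.quad_gbar _
  have hsurj : Function.Surjective d.quad := by
    intro x
    by_cases hx : x = 0
    · exact ⟨1, by rw [hx, d.quad_one]⟩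
    · obtain ⟨j, hj⟩ := d.exists_orderOf (d.quad u₀) hq0 x hx
      exact ⟨((E ^ j) (Additive.ofMul u₀)).toMul, by rw [hEpow]; exact hj⟩
  have hbij : Function.Bijective d.quad :=
    (Nat.bijective_iff_surjective_and_card _).2 ⟨hsurj, hcU⟩
  have hEinj : Function.Injective E := fun a b h => d.gbar_injective h
  obtain ⟨F', _, _, _, e', ω', hω', he', hgen'⟩ := exists_field_model (W := Additive U)
    (fun w => hUsq w.toMul) E hEinj (w₀ := Additive.ofMul u₀) hu₀ (fun w hw => by
      obtain ⟨j, hj⟩ := d.exists_orderOf (d.quad u₀) hq0 (d.quad w.toMul)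
        (fun h => hw (d.quad_eq_zero h))
      exact ⟨j, Additive.toMul.injective (hbij.1 (by rw [hEpow]; exact hj))⟩)
  haveI : Fact (Nat.Prime 2) := ⟨Nat.prime_two⟩
  let ψ : F' ≃+* F := FiniteField.ringEquivOfCardEq (by
    rw [← Nat.card_eq_fintype_card, ← Nat.card_eq_fintype_card, ← Nat.card_congr e'.toEquiv]
    exact hcU)
  let e : Additive U ≃+ F := e'.trans ψ.toAddEquiv
  let η : F := ψ ω'
  have hgen : ∀ x : F, x ≠ 0 → ∃ j : ℕ, η ^ j = x := fun x hx => by
    obtain ⟨j, hj⟩ := hgen' (ψ.symm x) (by simpa using hx)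
    exact ⟨j, by rw [← map_pow, hj, ψ.apply_symm_apply]⟩
  let Q : F → F := fun x => d.quad (e.symm x).toMul
  have hQη : ∀ x, Q (η * x) = d.ω * Q x := by
    intro x
    have : e.symm (η * x) = E (e.symm x) := by
      apply e.injective
      rw [e.apply_symm_apply]
      show η * x = ψ (e' (E (e.symm x)))
      rw [he', map_mul]
      congr 1
      exact (e.apply_symm_apply x).symm
    show d.quad (e.symm (η * x)).toMul = _
    rw [this]
    exact d.quad_gbar _
  have hQ0 : Q 0 = 0 := by simp [Q, d.quad_one]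
  have hQinj : Function.Injective Q := fun a b h =>
    e.symm.injective (Additive.toMul.injective (hbij.1 h))
  have hQ1 : Q 1 ≠ 0 := fun h => one_ne_zero (hQinj (h.trans hQ0.symm))
  have hQpow : ∀ (j : ℕ) x, Q (η ^ j * x) = d.ω ^ j * Q x := by
    intro j
    induction j with
    | zero => intro x; simp
    | succ j ih => intro x; rw [pow_succ', mul_assoc, hQη, ih, pow_succ', mul_assoc]
  let μ : F →* F :=
    { toFun := fun x => Q x / Q 1
      map_one' := div_self hQ1
      map_mul' := fun x y => by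
        by_cases hx : x = 0
        · simp [hx, hQ0]
        obtain ⟨j, rfl⟩ := hgen x hx
        have h1 := hQpow j 1
        rw [mul_one] at h1
        rw [hQpow, h1]
        field_simp }
  have hμ : ∀ x y z, μ (x + y + z) + μ (x + y) + μ (x + z) + μ (y + z) + μ x + μ y + μ z = 0 := by
    intro x y z
    show Q (x + y + z) / Q 1 + Q (x + y) / Q 1 + Q (x + z) / Q 1 + Q (y + z) / Q 1 + Q x / Q 1 +
      Q y / Q 1 + Q z / Q 1 = 0
    simp only [← add_div]
    rw [div_eq_zero_iff]
    left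
    simp only [Q, map_add, toMul_add]
    exact d.polar_add _ _ _
  obtain ⟨cf, hcf⟩ := exists_quadratic (fun x => μ x) hμ
  let hom : (F ≃+* F) × (F ≃+* F) → (F →* F) := fun st =>
    (st.1 : F →+* F).toMonoidHom * (st.2 : F →+* F).toMonoidHom
  have hspan : (μ : F → F) ∈ Submodule.span F ((fun f : F →* F => (f : F → F)) '' Set.range hom) := by
    have : (μ : F → F) = ∑ σ, ∑ τ, cf σ τ • ((hom (σ, τ) : F →* F) : F → F) := by
      funext x
      rw [hcf x]
      simp [Finset.sum_apply, hom, smul_eq_mul]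
    rw [this]
    exact Submodule.sum_mem _ fun σ _ => Submodule.sum_mem _ fun τ _ =>
      Submodule.smul_mem _ _ (Submodule.subset_span ⟨_, ⟨(σ, τ), rfl⟩, rfl⟩)
  obtain ⟨⟨σ, τ⟩, hστ⟩ : μ ∈ Set.range hom := by
    by_contra hn
    exact (linearIndependent_monoidHom F F).notMem_span_image hn hspan
  have hQστ : ∀ x, Q x = Q 1 * (σ x * τ x) := fun x => by
    have h : σ x * τ x = Q x / Q 1 := DFunLike.congr_fun hστ x
    rw [h]; field_simp
  let X : P → F := fun p => σ (e (Additive.ofMul (p : U)))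
  refine ⟨X, σ.symm.trans τ, Q 1, hQ1, fun p r => ?_, fun x => ?_, fun p => ?_, fun p => ?_, ?_⟩
  · show σ (e (Additive.ofMul ((p * r : P) : U))) = _
    rw [QuotientGroup.mk_mul, ofMul_mul, map_add, map_add]
  · obtain ⟨p, hp⟩ := QuotientGroup.mk_surjective (e.symm (σ.symm x)).toMul
    refine ⟨p, ?_⟩
    show σ (e (Additive.ofMul (p : U))) = x
    rw [hp, ofMul_toMul, e.apply_symm_apply, σ.apply_symm_apply]
  · show σ (e (Additive.ofMul (p : U))) = 0 ↔ _
    rw [map_eq_zero_iff σ σ.injective, map_eq_zero_iff e e.injective, ofMul_eq_zero,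
      QuotientGroup.eq_one_iff, d.center_eq_V]
    rfl
  · have h := hQστ (e (Additive.ofMul (p : U)))
    simp only [Q, e.symm_apply_apply, toMul_ofMul, d.quad_mk] at h
    rw [h]
    show _ = Q 1 * (τ (σ.symm (σ (e (Additive.ofMul (p : U))))) * σ (e (Additive.ofMul (p : U))))
    rw [σ.symm_apply_apply]
    ring
  · intro a b hab
    have h2 : Q (σ.symm a) = Q (σ.symm b) := by
      rw [hQστ (σ.symm a), hQστ (σ.symm b), σ.apply_symm_apply, σ.apply_symm_apply]
      have hab' : τ (σ.symm a) * a = τ (σ.symm b) * b := hab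
      linear_combination Q 1 * hab'
    exact σ.symm.injective (hQinj h2)

theorem exists_typeA (hcard : Nat.card P = Nat.card (Subgroup.center P) ^ 2) :
    ∃ φ : F ≃+* F, φ ≠ RingEquiv.refl F ∧ Odd (orderOf φ) ∧
      Nonempty (P ≃* Cfsg.suzukiTypeA F (φ : F →+* F)) := by
  classical
  haveI := d.finite
  have t0 : ∀ a : F, a + a = 0 := CharTwo.add_self_eq_zero
  obtain ⟨X, φ, c, hc, hX, hXs, hX0, hsq, hinj⟩ := d.exists_typeA_form hcard
  have hcom : ∀ p r, d.ι ⁅p, r⁆ = c * (φ (X p) * X r + φ (X r) * X p) := by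
    intro p r
    have h := d.ι_sq_mul r p
    rw [hsq, hsq, hsq, hX, map_add] at h
    linear_combination -h
  refine ⟨φ, ?_, odd_orderOf_of_fixed φ ?_, ?_⟩
  · rintro rfl
    obtain ⟨x, y, hxy⟩ := d.nonabelian
    apply hxy
    rw [← commutatorElement_eq_one_iff_mul_comm]
    refine d.ι_eq_zero _ (d.comm_mem_V x y) ?_
    rw [hcom]
    simp only [RingEquiv.refl_apply]
    linear_combination c * t0 (X x * X y)
  · intro u hu
    by_contra hne
    have hu0 : u ≠ 0 := by rintro rfl; exact hne (map_zero φ)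
    have hv0 : φ u ≠ 0 := (map_ne_zero_iff φ φ.injective).2 hu0
    have h : φ (u / φ u) * (u / φ u) = φ 1 * 1 := by
      rw [map_div₀, hu, map_one]
      field_simp
    exact hne (eq_of_div_eq_one (hinj h)).symm
  choose w hw1 hw2 using d.ι_surj
  refine mulEquiv_suzukiTypeA (φ : F →+* F) X hX hXs (fun y => w (c * y)) (fun a b => ?_)
    (fun a b h => ?_) (fun p => ?_) (fun y p => d.comm_of_sq_one (hw1 _) p) (fun p => ?_) (fun p r => ?_)
  · refine d.ι_inj (hw1 _) (d.sq_one_mul (hw1 _) (hw1 _)) ?_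
    rw [d.ι_mul _ _ (hw1 _) (hw1 _), hw2, hw2, hw2, mul_add]
  · have := congrArg d.ι h
    simp only [hw2] at this
    exact mul_left_cancel₀ hc this
  · rw [hX0]
    refine ⟨fun h => ⟨d.ι p / c, d.ι_inj h (hw1 _) ?_⟩, ?_⟩
    · rw [hw2]; field_simp
    · rintro ⟨y, rfl⟩; exact hw1 _
  · refine d.ι_inj (d.sq_mem_V p) (hw1 _) ?_
    rw [hw2, hsq]; rfl
  · refine d.ι_inj (d.comm_mem_V p r) (hw1 _) ?_
    rw [hw2, hcom]; rfl

end SuzData

end Cfsg.Agent.SuzukiTwo
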