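import Cfsg.Agent.EqLemmas

/-!
An endomorphism of an elementary abelian 2-group which is transitive on the non-zero elements is
multiplication by a generator of a finite field: `exists_field_model`.
-/

set_option autoImplicit false

namespace Cfsg.Agent.SuzukiTwo

theorem exists_field_model {W : Type*} [AddCommGroup W] [Finite W] (two : ∀ w : W, w + w = 0)
    (E : AddMonoid.End W) (hEinj : Function.Injective E) {w₀ : W} (hw₀ : w₀ ≠ 0)
    (htrans : ∀ w : W, w ≠ 0 → ∃ j : ℕ, (E ^ j) w₀ = w) :
    ∃ (F : Type) (_ : Field F) (_ : Fintype F) (_ : CharP F 2) (ι : W ≃+ F) (ω : F),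
      ω ≠ 0 ∧ (∀ w, ι (E w) = ω * ι w) ∧ ∀ x : F, x ≠ 0 → ∃ j : ℕ, ω ^ j = x := by
  classical
  haveI := Fact.mk Nat.prime_two
  haveI : Finite (AddMonoid.End W) :=
    Finite.of_injective (fun f : W →+ W => (f : W → W)) DFunLike.coe_injective
  let R := Subring.centralizer ({E} : Set (AddMonoid.End W))
  have hmem : ∀ r : R, E * r.1 = r.1 * E := fun r =>
    Subring.mem_centralizer_iff.1 r.2 E rfl
  have hE : E ∈ R := Subring.mem_centralizer_iff.2 (by rintro _ rfl; rfl)
  let e : R := ⟨E, hE⟩
  let ev : R →+ W := AddMonoidHom.mk' (fun r => r.1 w₀) (fun r s => rfl)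
  have hev0 : ∀ r : R, ev r = 0 → r = 0 := by
    intro r hr
    ext w
    by_cases hw : w = 0
    · subst hw; simp
    · obtain ⟨j, rfl⟩ := htrans w hw
      have h : r.1 * E ^ j = E ^ j * r.1 := (Commute.pow_right (hmem r).symm j).eq
      show (r.1 * E ^ j) w₀ = 0
      rw [h]
      show (E ^ j) (r.1 w₀) = 0
      rw [show r.1 w₀ = 0 from hr, map_zero]
  have hinj : Function.Injective ev := (injective_iff_map_eq_zero ev).2 hev0
  have hpow : ∀ r : R, r ≠ 0 → ∃ j : ℕ, e ^ j = r := by
    intro r hr
    obtain ⟨j, hj⟩ := htrans (ev r) (fun h => hr (hev0 r h))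
    refine ⟨j, hinj ?_⟩
    show ((e ^ j : R) : AddMonoid.End W) w₀ = _
    rw [SubmonoidClass.coe_pow]
    exact hj
  have hsurj : Function.Surjective ev := by
    intro w
    by_cases hw : w = 0
    · exact ⟨0, by rw [map_zero, hw]⟩
    · obtain ⟨j, rfl⟩ := htrans w hw
      exact ⟨e ^ j, show ((e ^ j : R) : AddMonoid.End W) w₀ = _ by rw [SubmonoidClass.coe_pow]⟩
  haveI : Nontrivial R := by
    obtain ⟨r, hr⟩ := hsurj w₀
    exact nontrivial_of_ne r 0 (fun h => hw₀ (by rw [← hr, h, map_zero]))
  have hcomm : ∀ r s : R, r * s = s * r := by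
    intro r s
    by_cases hr : r = 0
    · simp [hr]
    · obtain ⟨j, rfl⟩ := hpow r hr
      exact (Commute.pow_left (show Commute e s from Subtype.ext (hmem s)) j).eq
  letI : CommRing R := { (inferInstance : Ring R) with mul_comm := hcomm }
  haveI : IsDomain R := by
    haveI : NoZeroDivisors R := ⟨fun {r s} h => by
      by_contra hc
      obtain ⟨hr, hs⟩ := not_or.1 hc
      have he : ∀ w : W, E w = 0 → w = 0 := (injective_iff_map_eq_zero E).1 hEinj
      obtain ⟨j, rfl⟩ := hpow r hr
      apply hs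
      have hej : ∀ m (w : W), (E ^ m) w = 0 → w = 0 := by
        intro m
        induction m with
        | zero => intro w hw; simpa using hw
        | succ m ih => intro w hw; exact he w (ih _ (by rw [pow_succ] at hw; exact hw))
      apply hev0
      refine hej j _ ?_
      have := congrArg ev h
      rw [map_zero] at this
      rw [← this]
      show _ = ((e ^ j * s : R) : AddMonoid.End W) w₀
      rw [Subring.coe_mul, SubmonoidClass.coe_pow]
      rfl⟩
    exact NoZeroDivisors.to_isDomain R
  letI : Field R := (Finite.isField_of_domain R).toField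
  letI : Fintype R := Fintype.ofFinite R
  have h2 : (1 : R) + 1 = 0 := hinj (by rw [map_add, map_zero]; exact two _)
  haveI : CharP R 2 := CharTwo.of_one_ne_zero_of_two_eq_zero one_ne_zero (by rw [← one_add_one_eq_two, h2])
  obtain ⟨n, -, hn⟩ := FiniteField.card R 2
  haveI : Finite (GaloisField 2 n) := Nat.finite_of_card_ne_zero (by rw [GaloisField.card 2 n n.ne_zero]; simp)
  letI : Fintype (GaloisField 2 n) := Fintype.ofFinite _
  let φ : R ≃+* GaloisField 2 n := FiniteField.ringEquivOfCardEq (by
    rw [hn, ← Nat.card_eq_fintype_card, GaloisField.card 2 n n.ne_zero])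
  refine ⟨GaloisField 2 n, inferInstance, inferInstance, inferInstance,
    (AddEquiv.ofBijective ev ⟨hinj, hsurj⟩).symm.trans φ.toAddEquiv, φ e, ?_, ?_, ?_⟩
  · intro h
    have he : e = 0 := φ.injective (by rw [h, map_zero])
    refine hw₀ (hEinj ?_)
    rw [map_zero, show E = 0 from congrArg Subtype.val he]
    rfl
  · intro w
    obtain ⟨r, rfl⟩ := hsurj w
    have : E (ev r) = ev (e * r) := rfl
    simp only [AddEquiv.trans_apply]
    rw [this]
    have hs : ∀ s, (AddEquiv.ofBijective ev ⟨hinj, hsurj⟩).symm (ev s) = s := fun s =>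
      (AddEquiv.ofBijective ev ⟨hinj, hsurj⟩).symm_apply_apply s
    rw [hs, hs]
    exact map_mul φ e r
  · intro x hx
    obtain ⟨j, hj⟩ := hpow (φ.symm x) (by simpa using hx)
    exact ⟨j, by rw [← map_pow, hj, φ.apply_symm_apply]⟩

end Cfsg.Agent.SuzukiTwo
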