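import Cfsg.Agent.Lib.SuzukiTwo.FieldMaps
import Cfsg.Agent.Lib.SuzukiTwo.SingerModel
import Cfsg.Agent.Lib.PGroup.Basic

/-!
Set-up for Higman's theorem on Suzuki 2-groups: `SuzData P F`, homocyclic normal subgroups
`Homo A k` with their coordinate `π`, and steps above a normal invariant subgroup.
-/

set_option autoImplicit false

open scoped commutatorElement

namespace Cfsg.Agent.SuzukiTwo

/-- A 2-group `P` with an automorphism `g` whose action on the involutions (all central) is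
multiplication by a generator `ω` of the multiplicative group of the field `F`. -/
structure SuzData (P : Type*) [Group P] (F : Type*) [Field F] where
  g : MulAut P
  ι : P → F
  ω : F
  finite : Finite P
  pgroup : IsPGroup 2 P
  central : ∀ v : P, v * v = 1 → v ∈ Subgroup.center P
  ι_mul : ∀ v w : P, v * v = 1 → w * w = 1 → ι (v * w) = ι v + ι w
  ι_eq_zero : ∀ v : P, v * v = 1 → ι v = 0 → v = 1
  ι_surj : ∀ x : F, ∃ v : P, v * v = 1 ∧ ι v = x
  ι_g : ∀ v : P, v * v = 1 → ι (g v) = ω * ι v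
  ω_ne_zero : ω ≠ 0
  generates : ∀ x : F, x ≠ 0 → ∃ j : ℕ, ω ^ j = x
  ω_ne_one : ω ≠ 1
  nonabelian : ∃ x y : P, x * y ≠ y * x

namespace SuzData

variable {P : Type*} [Group P] {F : Type*} [Field F] (d : SuzData P F)

include d

lemma comm_of_sq_one {v : P} (hv : v * v = 1) (x : P) : x * v = v * x :=
  Subgroup.mem_center_iff.1 (d.central v hv) x

lemma ι_one : d.ι 1 = 0 := by
  have h := d.ι_mul 1 1 (by simp) (by simp)
  rw [mul_one] at h
  linear_combination -h

lemma sq_one_mul {v w : P} (hv : v * v = 1) (hw : w * w = 1) : v * w * (v * w) = 1 := by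
  calc v * w * (v * w) = v * (w * v) * w := by group
    _ = v * (v * w) * w := by rw [d.comm_of_sq_one hv w]
    _ = (v * v) * (w * w) := by group
    _ = 1 := by rw [hv, hw, mul_one]

lemma ι_inj {v w : P} (hv : v * v = 1) (hw : w * w = 1) (h : d.ι v = d.ι w) : v = w := by
  have hw' : w⁻¹ = w := inv_eq_of_mul_eq_one_left hw
  have h2 := d.ι_eq_zero (v * w) (d.sq_one_mul hv hw) ?_
  · rw [eq_inv_of_mul_eq_one_left h2, hw']
  · rw [d.ι_mul v w hv hw, h]
    have h3 := d.ι_mul w w hw hw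
    rw [hw, d.ι_one] at h3
    exact h3.symm

/-- The subgroup of elements of order at most two. -/
def V (d : SuzData P F) : Subgroup P where
  carrier := {v | v * v = 1}
  one_mem' := by simp
  mul_mem' hv hw := d.sq_one_mul hv hw
  inv_mem' {v} hv := by
    show v⁻¹ * v⁻¹ = 1
    rw [← mul_inv_rev, show v * v = 1 from hv, inv_one]

lemma mem_V {v : P} : v ∈ d.V ↔ v * v = 1 := Iff.rfl

/-- A subgroup invariant under `g`. -/
def Inv (d : SuzData P F) (H : Subgroup P) : Prop := ∀ x ∈ H, d.g x ∈ H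

lemma inv_V : d.Inv d.V := fun v hv => by
  rw [d.mem_V] at hv ⊢
  rw [← map_mul, hv, map_one]

lemma normal_V : d.V.Normal := ⟨fun v hv x => by
  rw [d.comm_of_sq_one hv x, mul_inv_cancel_right]; exact hv⟩

lemma g_pow_mem {H : Subgroup P} (hH : d.Inv H) (j : ℕ) {x : P} (hx : x ∈ H) :
    (d.g ^ j) x ∈ H := by
  induction j with
  | zero => simpa using hx
  | succ j ih => rw [pow_succ']; exact hH _ ih

lemma ι_g_pow (j : ℕ) {v : P} (hv : v * v = 1) : d.ι ((d.g ^ j) v) = d.ω ^ j * d.ι v := by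
  induction j with
  | zero => simp
  | succ j ih =>
    rw [pow_succ', MulAut.mul_apply, d.ι_g, ih, pow_succ']
    · ring
    · rw [← map_mul, hv, map_one]

lemma exists_orderOf (x : F) (hx : x ≠ 0) (y : F) (hy : y ≠ 0) : ∃ j : ℕ, d.ω ^ j * x = y := by
  obtain ⟨j, hj⟩ := d.generates (y / x) (div_ne_zero hy hx)
  exact ⟨j, by rw [hj, div_mul_cancel₀ _ hx]⟩

/-- An automorphism is determined by the image of `ω`. -/
lemma aut_ext {σ τ : F ≃+* F} (h : σ d.ω = τ d.ω) : σ = τ := by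
  refine RingEquiv.ext fun x => ?_
  by_cases hx : x = 0
  · simp [hx]
  · obtain ⟨j, rfl⟩ := d.generates x hx
    rw [map_pow, map_pow, h]

/-- `A` is a normal invariant homocyclic subgroup of exponent `2 ^ k` containing all involutions. -/
structure Homo (d : SuzData P F) (A : Subgroup P) (k : ℕ) : Prop where
  normal : A.Normal
  inv : d.Inv A
  comm : ∀ a ∈ A, ∀ b ∈ A, a * b = b * a
  one_le : 1 ≤ k
  exp : ∀ a ∈ A, a ^ 2 ^ k = 1
  top : ∀ v : P, v * v = 1 → ∃ a ∈ A, a ^ 2 ^ (k - 1) = v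

variable {d} {A : Subgroup P} {k : ℕ}

lemma Homo.mul_pow (hA : d.Homo A k) {a b : P} (ha : a ∈ A) (hb : b ∈ A) (m : ℕ) :
    (a * b) ^ m = a ^ m * b ^ m :=
  Commute.mul_pow (hA.comm a ha b hb) m

lemma Homo.root (hA : d.Homo A k) : ∀ (i : ℕ) {a : P}, i ≤ k → a ∈ A → a ^ 2 ^ i = 1 →
    ∃ b ∈ A, b ^ 2 ^ (k - i) = a := by
  intro i
  induction i with
  | zero =>
    intro a _ ha h
    exact ⟨1, one_mem A, by rw [one_pow]; simpa using h.symm⟩
  | succ i ih =>
    intro a hik ha h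
    obtain ⟨c, hc, hca⟩ := hA.top (a ^ 2 ^ i) (by rw [← pow_add, ← two_mul, ← pow_succ']; exact h)
    have hki : k - i = k - (i + 1) + 1 := by omega
    obtain ⟨b, hb, hba⟩ := ih (a := a * (c ^ 2 ^ (k - (i + 1)))⁻¹) (by omega)
      (mul_mem ha (inv_mem (pow_mem hc _))) (by
        rw [hA.mul_pow ha (inv_mem (pow_mem hc _)), inv_pow, ← pow_mul, ← pow_add,
          show k - (i + 1) + i = k - 1 by omega, hca, mul_inv_cancel])
    refine ⟨b ^ 2 * c, mul_mem (pow_mem hb _) hc, ?_⟩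
    rw [hA.mul_pow (pow_mem hb _) hc, ← pow_mul, ← pow_succ', ← hki, hba]
    group

/-- The coordinate of `a ∈ A` modulo squares. -/
def pi (d : SuzData P F) (k : ℕ) (a : P) : F := d.ι (a ^ 2 ^ (k - 1))

lemma Homo.top_sq (hA : d.Homo A k) {a : P} (ha : a ∈ A) :
    a ^ 2 ^ (k - 1) * a ^ 2 ^ (k - 1) = 1 := by
  have := hA.one_le
  rw [← pow_add, ← two_mul, ← pow_succ', show k - 1 + 1 = k by omega]
  exact hA.exp a ha

lemma Homo.pi_mul (hA : d.Homo A k) {a b : P} (ha : a ∈ A) (hb : b ∈ A) :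
    d.pi k (a * b) = d.pi k a + d.pi k b := by
  rw [pi, hA.mul_pow ha hb, d.ι_mul _ _ (hA.top_sq ha) (hA.top_sq hb)]
  rfl

lemma Homo.pi_surj (hA : d.Homo A k) (x : F) : ∃ a ∈ A, d.pi k a = x := by
  obtain ⟨v, hv, rfl⟩ := d.ι_surj x
  obtain ⟨a, ha, rfl⟩ := hA.top v hv
  exact ⟨a, ha, rfl⟩

lemma Homo.exists_sq (hA : d.Homo A k) {a : P} (ha : a ∈ A) (h : d.pi k a = 0) :
    ∃ b ∈ A, b * b = a := by
  have := hA.one_le
  obtain ⟨b, hb, hba⟩ := hA.root (k - 1) (by omega) ha (d.ι_eq_zero _ (hA.top_sq ha) h)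
  refine ⟨b, hb, ?_⟩
  rw [show k - (k - 1) = 1 by omega, pow_one, pow_two] at hba
  exact hba

lemma Homo.pi_sq (hA : d.Homo A k) {b : P} (hb : b ∈ A) : d.pi k (b * b) = 0 := by
  rw [pi, hA.mul_pow hb hb, hA.top_sq hb, d.ι_one]

lemma Homo.pi_g (hA : d.Homo A k) {a : P} (ha : a ∈ A) : d.pi k (d.g a) = d.ω * d.pi k a := by
  rw [pi, ← map_pow, d.ι_g _ (hA.top_sq ha)]
  rfl

lemma Homo.V_le (hA : d.Homo A k) : d.V ≤ A := fun v hv => by
  obtain ⟨a, ha, rfl⟩ := hA.top v hv
  exact pow_mem ha _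

variable (d)

lemma exists_involution : ∃ v : P, v * v = 1 ∧ v ≠ 1 := by
  obtain ⟨v, hv, hv1⟩ := d.ι_surj 1
  exact ⟨v, hv, fun h => one_ne_zero (α := F) (by rw [← hv1, h, d.ι_one])⟩

lemma exists_homo {A : Subgroup P} (hn : A.Normal) (hi : d.Inv A)
    (hc : ∀ a ∈ A, ∀ b ∈ A, a * b = b * a) (hV : d.V ≤ A) : ∃ k, d.Homo A k := by
  haveI := d.finite
  classical
  have hex : ∃ k, ∀ a ∈ A, a ^ 2 ^ k = 1 := by
    obtain ⟨m, hm⟩ := IsPGroup.iff_card.1 d.pgroup
    exact ⟨m, fun a _ => by rw [← hm]; exact pow_card_eq_one'⟩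
  obtain ⟨v, hv, hv1⟩ := d.exists_involution
  have h1 : 1 ≤ Nat.find hex := by
    refine Nat.one_le_iff_ne_zero.2 fun h0 => hv1 ?_
    have := Nat.find_spec hex v (hV hv)
    rw [h0] at this
    simpa using this
  refine ⟨Nat.find hex, hn, hi, hc, h1, Nat.find_spec hex, fun w hw => ?_⟩
  obtain ⟨a, ha, ha1⟩ : ∃ a ∈ A, a ^ 2 ^ (Nat.find hex - 1) ≠ 1 := by
    have := Nat.find_min hex (m := Nat.find hex - 1) (by omega)
    simp only [not_forall] at this
    obtain ⟨a, ha, ha1⟩ := this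
    exact ⟨a, ha, ha1⟩
  have hu : a ^ 2 ^ (Nat.find hex - 1) * a ^ 2 ^ (Nat.find hex - 1) = 1 := by
    rw [← pow_add, ← two_mul, ← pow_succ', show Nat.find hex - 1 + 1 = Nat.find hex by omega]
    exact Nat.find_spec hex a ha
  by_cases hw0 : w = 1
  · exact ⟨1, one_mem A, by rw [hw0, one_pow]⟩
  obtain ⟨j, hj⟩ := d.exists_orderOf _ (fun h => ha1 (d.ι_eq_zero _ hu h)) _
    (fun h => hw0 (d.ι_eq_zero _ hw h))
  refine ⟨(d.g ^ j) a, d.g_pow_mem hi j ha, d.ι_inj ?_ hw ?_⟩
  · rw [← map_pow, ← map_mul, hu, map_one]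
  · rw [← map_pow, d.ι_g_pow j hu, hj]

/-- `B` is a minimal normal invariant subgroup above `A`: elementary abelian and central in `P ⧸ A`
with no invariant subgroup strictly in between. -/
structure Step (d : SuzData P F) (A B : Subgroup P) : Prop where
  lt : A < B
  inv : d.Inv B
  normal : B.Normal
  sq_mem : ∀ y ∈ B, y * y ∈ A
  comm_mem : ∀ p : P, ∀ y ∈ B, ⁅p, y⁆ ∈ A
  irred : ∀ C : Subgroup P, A ≤ C → C ≤ B → d.Inv C → C = A ∨ C = B

lemma exists_step {A C : Subgroup P} (hAn : A.Normal) (hAi : d.Inv A) (hCn : C.Normal)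
    (hCi : d.Inv C) (hlt : A < C) : ∃ B, d.Step A B ∧ B ≤ C := by
  haveI := d.finite
  haveI := Fact.mk Nat.prime_two
  haveI := hCn
  let π := QuotientGroup.mk' A
  haveI : (C.map π).Normal := hCn.map π (QuotientGroup.mk'_surjective A)
  have hne : C.map π ≠ ⊥ := by
    intro h
    rw [Subgroup.map_eq_bot_iff, QuotientGroup.ker_mk'] at h
    exact hlt.not_ge h
  obtain ⟨z, hzC, hz, hzo⟩ := PGroup.exists_central_order_p (d.pgroup.to_quotient A) hne
  let Z : Subgroup P :=
    { carrier := {x | x ∈ C ∧ x * x ∈ A ∧ ∀ p, ⁅p, x⁆ ∈ A}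
      one_mem' := ⟨one_mem C, by simp, fun p => by simp⟩
      mul_mem' := by
        rintro x y ⟨hx, hx2, hxc⟩ ⟨hy, hy2, hyc⟩
        refine ⟨mul_mem hx hy, ?_, fun p => ?_⟩
        · have : x * y * (x * y) = (x * x) * (x⁻¹ * ⁅y, x⁆ * x) * (y * y) := by
            rw [commutatorElement_def]; group
          rw [this]
          refine mul_mem (mul_mem hx2 ?_) hy2
          simpa using hAn.conj_mem _ (hxc y) x⁻¹
        · have : ⁅p, x * y⁆ = ⁅p, x⁆ * (x * ⁅p, y⁆ * x⁻¹) := by
            simp only [commutatorElement_def]; group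
          rw [this]
          exact mul_mem (hxc p) (hAn.conj_mem _ (hyc p) x)
      inv_mem' := by
        rintro x ⟨hx, hx2, hxc⟩
        refine ⟨inv_mem hx, ?_, fun p => ?_⟩
        · rw [← mul_inv_rev]; exact inv_mem hx2
        · have : ⁅p, x⁻¹⁆ = x⁻¹ * ⁅p, x⁆⁻¹ * x := by simp only [commutatorElement_def]; group
          rw [this]
          simpa using hAn.conj_mem _ (inv_mem (hxc p)) x⁻¹ }
  have hZi : d.Inv Z := by
    rintro x ⟨hx, hx2, hxc⟩
    refine ⟨hCi x hx, ?_, fun p => ?_⟩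
    · rw [← map_mul]; exact hAi _ hx2
    · rw [← d.g.apply_symm_apply p, ← map_commutatorElement]
      exact hAi _ (hxc _)
  have hAZ : A < Z := by
    have hle : A ≤ Z := fun a ha => ⟨hlt.le ha, mul_mem ha ha, fun p => by
      rw [commutatorElement_def]; exact mul_mem (hAn.conj_mem a ha p) (inv_mem ha)⟩
    obtain ⟨x, hx, rfl⟩ := hzC
    suffices hxZ : (x * x ∈ A ∧ ∀ p, ⁅p, x⁆ ∈ A) ∧ x ∉ A by
      have hmem : x ∈ Z := ⟨hx, hxZ.1⟩
      exact SetLike.lt_iff_le_and_exists.2 ⟨hle, x, hmem, hxZ.2⟩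
    refine ⟨⟨?_, fun p => ?_⟩, fun hxA => ?_⟩
    · have := pow_orderOf_eq_one (π x)
      rw [hzo, pow_two, ← map_mul] at this
      exact (QuotientGroup.eq_one_iff _).1 this
    · have := Subgroup.mem_center_iff.1 hz (π p)
      refine (QuotientGroup.eq_one_iff _).1 ?_
      show π ⁅p, x⁆ = 1
      rw [map_commutatorElement, commutatorElement_eq_one_iff_mul_comm]
      exact this
    · rw [show π x = 1 from (QuotientGroup.eq_one_iff x).2 hxA, orderOf_one] at hzo
      exact absurd hzo (by norm_num)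
  obtain ⟨B, -, hB⟩ := Finite.exists_le_minimal
    (p := fun B : Subgroup P => A < B ∧ B ≤ Z ∧ d.Inv B) ⟨hAZ, le_rfl, hZi⟩
  obtain ⟨hAB, hBZ, hBi⟩ := hB.prop
  refine ⟨B, ⟨hAB, hBi, ⟨fun y hy p => ?_⟩, fun y hy => (hBZ hy).2.1,
    fun p y hy => (hBZ hy).2.2 p, fun D hAD hDB hDi => ?_⟩, fun y hy => (hBZ hy).1⟩
  · rw [show p * y * p⁻¹ = ⁅p, y⁆ * y by rw [commutatorElement_def]; group]
    exact mul_mem (hAB.le ((hBZ hy).2.2 p)) hy
  · rcases eq_or_lt_of_le hAD with h | h
    · exact Or.inl h.symm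
    · exact Or.inr (le_antisymm hDB (hB.le_of_le ⟨h, hDB.trans hBZ, hDi⟩ hDB))

end SuzData

/-- A 2-group with an automorphism whose powers are transitive on at least two involutions carries
`SuzData`. -/
theorem exists_suzData_of_transitive {P : Type*} [Group P] [Finite P] (hp : IsPGroup 2 P)
    (hna : ∃ x y : P, x * y ≠ y * x) (g₀ : MulAut P) {u u' : P} (huu' : u ≠ u') (hu1 : u ≠ 1)
    (hu2 : u * u = 1) (hu'1 : u' ≠ 1) (hu'2 : u' * u' = 1)
    (htrans : ∀ x y : P, x ≠ 1 → x * x = 1 → y ≠ 1 → y * y = 1 → ∃ j : ℕ, (g₀ ^ j) x = y) :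
    ∃ (F : Type) (_ : Field F) (_ : Fintype F) (_ : CharP F 2), Nonempty (SuzData P F) := by
  classical
  have hfin : Finite P := inferInstance
  haveI := Fact.mk Nat.prime_two
  have hcen : ∀ v : P, v * v = 1 → v ∈ Subgroup.center P := by
    intro v hv
    by_cases hv1 : v = 1
    · rw [hv1]; exact one_mem _
    obtain ⟨c, -, hc, hco⟩ := PGroup.exists_central_order_p hp (N := (⊤ : Subgroup P)) (fun h => hu1 (by
      have := Subgroup.mem_top u
      rwa [h, Subgroup.mem_bot] at this))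
    have hc2 : c * c = 1 := by rw [← pow_two, ← hco, pow_orderOf_eq_one]
    have hc1 : c ≠ 1 := fun h => by rw [h, orderOf_one] at hco; norm_num at hco
    obtain ⟨j, rfl⟩ := htrans c v hc1 hc2 hv1 hv
    rw [Subgroup.mem_center_iff]
    intro x
    rw [← (g₀ ^ j).apply_symm_apply x, ← map_mul, ← map_mul, Subgroup.mem_center_iff.1 hc]
  let V : Subgroup P :=
    { carrier := {v | v * v = 1}
      one_mem' := by simp
      mul_mem' := fun {v w} hv hw => by
        show v * w * (v * w) = 1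
        calc v * w * (v * w) = v * (w * v) * w := by group
          _ = v * (v * w) * w := by rw [Subgroup.mem_center_iff.1 (hcen v hv) w]
          _ = (v * v) * (w * w) := by group
          _ = 1 := by rw [show v * v = 1 from hv, show w * w = 1 from hw, mul_one]
      inv_mem' := fun {v} hv => by
        show v⁻¹ * v⁻¹ = 1
        rw [← mul_inv_rev, show v * v = 1 from hv, inv_one] }
  letI : CommGroup V :=
    { (inferInstance : Group V) with
      mul_comm := fun a b => Subtype.ext (Subgroup.mem_center_iff.1 (hcen b b.2) a) }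
  let E : AddMonoid.End (Additive V) := MonoidHom.toAdditive (MonoidHom.mk'
    (fun v : V => (⟨g₀ v, by
      show _ * _ = 1
      rw [← map_mul, show (v : P) * v = 1 from v.2, map_one]⟩ : V))
    (fun a b => Subtype.ext (map_mul _ _ _)))
  have hEpow : ∀ (j : ℕ) (w : Additive V),
      ((Additive.toMul ((E ^ j) w) : V) : P) = (g₀ ^ j) (Additive.toMul w : V) := by
    intro j
    induction j with
    | zero => intro w; rfl
    | succ j ih =>
      intro w
      rw [pow_succ', pow_succ', MulAut.mul_apply, ← ih]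
      rfl
  obtain ⟨F, _, _, _, ι, ω, hω0, hι, hgen⟩ := exists_field_model (W := Additive V)
    (fun w => by
      apply Additive.toMul.injective
      rw [toMul_add, toMul_zero]
      exact Subtype.ext (Additive.toMul w).2)
    E (fun a b h => by
      apply Additive.toMul.injective
      exact Subtype.ext (g₀.injective (congrArg (fun x => ((Additive.toMul x : V) : P)) h)))
    (w₀ := Additive.ofMul (⟨u, hu2⟩ : V))
    (fun h => hu1 (congrArg Subtype.val (congrArg Additive.toMul h)))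
    (fun w hw => by
      obtain ⟨j, hj⟩ := htrans u (Additive.toMul w : V) hu1 hu2
        (fun h => hw (Additive.toMul.injective (Subtype.ext h))) (Additive.toMul w : V).2
      exact ⟨j, Additive.toMul.injective (Subtype.ext ((hEpow j _).trans hj))⟩)
  refine ⟨F, inferInstance, inferInstance, inferInstance, ⟨{
    g := g₀
    ι := fun v => if h : v * v = 1 then ι (Additive.ofMul (⟨v, h⟩ : V)) else 0
    ω := ω, finite := hfin, pgroup := hp, central := hcen, ω_ne_zero := hω0, generates := hgen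
    nonabelian := hna
    ι_mul := fun v w hv hw => by
      have hvw : v * w * (v * w) = 1 := ((⟨v, hv⟩ : V) * (⟨w, hw⟩ : V)).2
      rw [dif_pos hv, dif_pos hw, dif_pos hvw, ← map_add]
      rfl
    ι_eq_zero := fun v hv h => by
      rw [dif_pos hv] at h
      exact congrArg Subtype.val (congrArg Additive.toMul (ι.map_eq_zero_iff.1 h))
    ι_surj := fun x => ⟨(Additive.toMul (ι.symm x) : V), (Additive.toMul (ι.symm x) : V).2, by
      rw [dif_pos (show ((Additive.toMul (ι.symm x) : V) : P) * (Additive.toMul (ι.symm x) : V) = 1 from (Additive.toMul (ι.symm x) : V).2)]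
      exact ι.apply_symm_apply x⟩
    ι_g := fun v hv => by
      have h' : g₀ v * g₀ v = 1 := by rw [← map_mul, hv, map_one]
      rw [dif_pos hv, dif_pos h', ← hι]
      rfl
    ω_ne_one := fun h => by
      have e : Additive.ofMul (⟨u', hu'2⟩ : V) = Additive.ofMul (⟨u, hu2⟩ : V) := by
        have h1 : ∀ w : Additive V, w ≠ 0 → ι w = 1 := by
          intro w hw
          obtain ⟨j, hj⟩ := hgen (ι w) (fun h0 => hw (ι.map_eq_zero_iff.1 h0))
          rw [← hj, h, one_pow]
        apply ι.injective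
        rw [h1 (Additive.ofMul (⟨u', hu'2⟩ : V))
            (fun h0 => hu'1 (congrArg Subtype.val (congrArg Additive.toMul h0))),
          h1 (Additive.ofMul (⟨u, hu2⟩ : V))
            (fun h0 => hu1 (congrArg Subtype.val (congrArg Additive.toMul h0)))]
      exact huu' (congrArg Subtype.val (congrArg Additive.toMul e)).symm }⟩⟩

/-- A Suzuki 2-group carries `SuzData`. -/
theorem exists_suzData {P : Type*} [Group P] (hP : Cfsg.IsSuzukiTwoGroup P) :
    ∃ (F : Type) (_ : Field F) (_ : Fintype F) (_ : CharP F 2), Nonempty (SuzData P F) := by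
  obtain ⟨hfin, hp, hna, ⟨u, u', huu', hu1, hu2, hu'1, hu'2⟩, K, hK, hreg⟩ := hP
  haveI := hfin
  obtain ⟨g₀, hg₀⟩ := IsCyclic.exists_generator (α := K)
  haveI : Finite (MulAut P) := Finite.of_injective (fun f : MulAut P => (f : P → P)) DFunLike.coe_injective
  refine exists_suzData_of_transitive hp hna (g₀ : MulAut P) huu' hu1 hu2 hu'1 hu'2 fun x y hx1 hx2 hy1 hy2 => ?_
  obtain ⟨k, hk, -⟩ := hreg x y hx1 hx2 hy1 hy2
  obtain ⟨j, rfl⟩ := mem_powers_iff_mem_zpowers.2 (hg₀ k)
  exact ⟨j, by rw [← SubmonoidClass.coe_pow]; exact hk⟩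

end Cfsg.Agent.SuzukiTwo
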