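import Cfsg.Agent.EqLemmas

/-!
Additive and quadratic maps of a finite field of characteristic 2 as combinations of field
automorphisms: `autSum_injective`, `exists_autSum`, `exists_biadd`, `exists_quadratic`.
-/

set_option autoImplicit false

namespace Cfsg.Agent.SuzukiTwo

variable {F : Type*} [Field F]

/-- The automorphisms of a finite field form a finite type. -/
noncomputable scoped instance autFintype [Finite F] : Fintype (F ≃+* F) :=
  @Fintype.ofFinite _ (Finite.of_injective (fun σ : F ≃+* F => (σ : F → F)) DFunLike.coe_injective)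

/-- The additive map `x ↦ ∑ σ, c σ * σ x`. -/
noncomputable def autSum [Finite F] (c : (F ≃+* F) → F) : F →+ F :=
  ∑ σ, (AddMonoidHom.mulLeft (c σ)).comp σ.toAddMonoidHom

lemma autSum_apply [Finite F] (c : (F ≃+* F) → F) (x : F) : autSum c x = ∑ σ, c σ * σ x := by
  simp [autSum, AddMonoidHom.finsetSum_apply]

lemma linearIndependent_aut :
    LinearIndependent F (fun σ : F ≃+* F => ((σ : F →+* F) : F → F)) := by
  let g : (F ≃+* F) → (F →* F) := fun σ => (σ : F →+* F).toMonoidHom
  have hg : Function.Injective g := fun σ τ hst => RingEquiv.ext fun x => DFunLike.congr_fun hst x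
  have h := (linearIndependent_monoidHom F F).comp g hg
  have e : (fun σ : F ≃+* F => ((σ : F →+* F) : F → F)) = (fun f : F →* F => (f : F → F)) ∘ g :=
    funext fun _ => rfl
  rw [e]
  exact h

lemma autSum_eq_zero [Finite F] {c : (F ≃+* F) → F} (h : ∀ x, ∑ σ, c σ * σ x = 0) : c = 0 := by
  funext σ
  have hli := (Fintype.linearIndependent_iff (R := F)
    (v := fun σ : F ≃+* F => ((σ : F →+* F) : F → F))).1 linearIndependent_aut c
  refine hli ?_ σ
  funext x
  simpa [Finset.sum_apply] using h x

lemma autSum_injective [Finite F] {c d : (F ≃+* F) → F}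
    (h : ∀ x, ∑ σ, c σ * σ x = ∑ σ, d σ * σ x) : c = d := by
  rw [← sub_eq_zero]
  apply autSum_eq_zero
  intro x
  simp [sub_mul, Finset.sum_sub_distrib, h x]

variable [Fintype F] [CharP F 2]

/-- Every additive endomorphism of a finite field of characteristic 2 is a combination of
field automorphisms. -/
theorem exists_autSum (f : F →+ F) : ∃ c : (F ≃+* F) → F, ∀ x, f x = ∑ σ, c σ * σ x := by
  classical
  letI := ZMod.algebra F 2
  haveI : Fact (Nat.Prime 2) := ⟨Nat.prime_two⟩
  set n := Module.finrank (ZMod 2) F with hn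
  have hF : Fintype.card F = 2 ^ n := by
    rw [Module.card_eq_pow_finrank (K := ZMod 2), ZMod.card]
  have haut : n ≤ Fintype.card (F ≃+* F) := by
    rw [hn, ← IsGalois.card_aut_eq_finrank (ZMod 2) F, ← Nat.card_eq_fintype_card]
    exact Nat.card_le_card_of_injective (fun s => s.toRingEquiv)
      (fun s t h => AlgEquiv.ext fun x => RingEquiv.congr_fun h x)
  let e : (F →+ F) ≃ (F →ₗ[ZMod 2] F) :=
    { toFun := AddMonoidHom.toZModLinearMap 2
      invFun := LinearMap.toAddMonoidHom
      left_inv := fun _ => rfl
      right_inv := fun _ => rfl }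
  have hE : Nat.card (F →+ F) = 2 ^ (n * n) := by
    rw [Nat.card_congr e, Module.natCard_eq_pow_finrank (K := ZMod 2), Module.finrank_linearMap,
      Nat.card_zmod]
  have hinj : Function.Injective (autSum (F := F)) := fun c d h =>
    autSum_injective fun x => by rw [← autSum_apply, ← autSum_apply, h]
  haveI : Finite (F →+ F) := Finite.of_injective _ DFunLike.coe_injective
  have hsurj : Function.Surjective (autSum (F := F)) := by
    refine ((Nat.bijective_iff_injective_and_card _).2 ⟨hinj, ?_⟩).2
    refine le_antisymm (Nat.card_le_card_of_injective _ hinj) ?_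
    rw [hE, Nat.card_fun, Nat.card_eq_fintype_card (α := F), Nat.card_eq_fintype_card (α := F ≃+* F),
      hF, ← pow_mul]
    exact Nat.pow_le_pow_right (by norm_num) (Nat.mul_le_mul_left n haut)
  obtain ⟨c, rfl⟩ := hsurj f
  exact ⟨c, autSum_apply c⟩

/-- Every biadditive map is a combination of `(x, y) ↦ σ x * τ y`. -/
theorem exists_biadd (B : F →+ F →+ F) :
    ∃ c : (F ≃+* F) → (F ≃+* F) → F, ∀ x y, B x y = ∑ σ, ∑ τ, c σ τ * (σ x * τ y) := by
  choose d hd using fun x => exists_autSum (B x)
  have hadd : ∀ x x' τ, d (x + x') τ = d x τ + d x' τ := by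
    intro x x'
    refine congrFun (autSum_injective fun y => ?_)
    rw [← hd, map_add, AddMonoidHom.add_apply, hd, hd]
    simp [add_mul, Finset.sum_add_distrib]
  choose c hc using fun τ => exists_autSum (AddMonoidHom.mk' (fun x => d x τ) (fun x x' => hadd x x' τ))
  refine ⟨fun σ τ => c τ σ, fun x y => ?_⟩
  rw [hd, Finset.sum_comm]
  refine Finset.sum_congr rfl fun τ _ => ?_
  have := hc τ x
  simp only [AddMonoidHom.mk'_apply] at this
  rw [this, Finset.sum_mul]
  exact Finset.sum_congr rfl fun σ _ => by ring

/-- A function whose polarisation is biadditive is a combination of `x ↦ σ x * τ x`. -/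
theorem exists_quadratic (q : F → F)
    (hq : ∀ x y z, q (x + y + z) + q (x + y) + q (x + z) + q (y + z) + q x + q y + q z = 0) :
    ∃ c : (F ≃+* F) → (F ≃+* F) → F, ∀ x, q x = ∑ σ, ∑ τ, c σ τ * (σ x * τ x) := by
  classical
  letI := ZMod.algebra F 2
  haveI : Fact (Nat.Prime 2) := ⟨Nat.prime_two⟩
  let e := Module.finBasis (ZMod 2) F
  have t0 : ∀ a : F, a + a = 0 := CharTwo.add_self_eq_zero
  have hq0 : q 0 = 0 := by
    have h := hq 0 0 0
    simp only [add_zero] at h
    linear_combination h - 3 * t0 (q 0)
  let P : F → F → F := fun x y => q (x + y) + q x + q y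
  have hPl : ∀ x y z, P (x + y) z = P x z + P y z := by
    intro x y z
    have h := hq x y z
    simp only [P]
    linear_combination h - t0 (q (x + z)) - t0 (q (y + z)) - t0 (q x) - t0 (q y) - t0 (q z)
  have hPc : ∀ x y, P x y = P y x := fun x y => by simp only [P]; rw [add_comm x y]; ring
  let Pb : F →+ F →+ F :=
    AddMonoidHom.mk' (fun x => AddMonoidHom.mk' (P x) (fun y z => by rw [hPc, hPl, hPc y, hPc z]))
      (fun x y => by ext z; exact hPl x y z)
  let co : Fin (Module.finrank (ZMod 2) F) → F →+ F := fun i =>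
    (algebraMap (ZMod 2) F).toAddMonoidHom.comp (e.coord i).toAddMonoidHom
  let C : F →+ F →+ F := ∑ i, ∑ j,
    if i < j then AddMonoidHom.mk'
      (fun x => (AddMonoidHom.mulLeft (co i x * Pb (e i) (e j))).comp (co j))
      (fun x y => by ext z; simp [add_mul]) else 0
  have hC : ∀ x y, C x y = ∑ i, ∑ j,
      if i < j then co i x * Pb (e i) (e j) * co j y else 0 := by
    intro x y
    simp only [C, AddMonoidHom.finsetSum_apply]
    refine Finset.sum_congr rfl fun i _ => Finset.sum_congr rfl fun j _ => ?_
    split <;> simp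
  have hco : ∀ i j, co i (e j) = if j = i then 1 else 0 := by
    intro i j
    simp only [co, AddMonoidHom.comp_apply, LinearMap.toAddMonoidHom_coe, e.coord_apply,
      e.repr_self, Finsupp.single_apply]
    split <;> simp
  have hsym : Pb = C + C.flip := by
    let L := AddMonoidHom.toZModLinearMap (M := F) (M₁ := F) 2
    have key : ∀ a b, Pb (e a) (e b) = (C + C.flip) (e a) (e b) := by
      intro a b
      rw [AddMonoidHom.add_apply, AddMonoidHom.add_apply, AddMonoidHom.flip_apply, hC, hC]
      simp only [hco, ite_mul, one_mul, zero_mul, mul_ite, mul_one, mul_zero]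
      rw [Finset.sum_eq_single a, Finset.sum_eq_single b, Finset.sum_eq_single b,
        Finset.sum_eq_single a] <;>
        try (intro h; exact absurd (Finset.mem_univ _) h)
      · rcases lt_trichotomy a b with h | rfl | h
        · simp [h, h.not_gt]
        · simp only [lt_self_iff_false, if_false, add_zero]
          show P (e a) (e a) = 0
          simp only [P]; rw [t0, hq0, zero_add, t0]
        · simp only [h, h.not_gt, if_false, if_true, zero_add]
          exact hPc _ _
      all_goals
        intro i _ hi
        simp [Ne.symm hi]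
    refine AddMonoidHom.ext fun x => ?_
    refine congrArg LinearMap.toAddMonoidHom
      (e.ext (f₁ := L (Pb x)) (f₂ := L ((C + C.flip) x)) fun b => ?_)
    show Pb x (e b) = (C + C.flip) x (e b)
    exact congrArg (fun l : F →ₗ[ZMod 2] F => l x)
      (e.ext (f₁ := L (Pb.flip (e b))) (f₂ := L ((C + C.flip).flip (e b))) fun a => key a b)
  have hadd : ∀ x y, (q (x + y) + C (x + y) (x + y)) = (q x + C x x) + (q y + C y y) := by
    intro x y
    have h : q (x + y) + q x + q y = C x y + C y x := by
      have := DFunLike.congr_fun (DFunLike.congr_fun hsym x) y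
      simpa [Pb, P] using this
    simp only [map_add, AddMonoidHom.add_apply]
    linear_combination h + t0 (C x y) + t0 (C y x) - t0 (q x) - t0 (q y)
  obtain ⟨l, hl⟩ := exists_autSum (AddMonoidHom.mk' (fun x => q x + C x x) hadd)
  obtain ⟨c, hc⟩ := exists_biadd C
  -- `σ x = σ' x * σ' x` for `σ' = (Frobenius)⁻¹ σ`
  let fr : F ≃+* F := frobeniusEquiv F 2
  have hfr : ∀ y, fr y = y * y := fun y => by
    show frobeniusEquiv F 2 y = y * y
    rw [frobeniusEquiv_apply, frobenius_def, pow_two]
  refine ⟨fun σ τ => (if τ = σ then l (σ.trans fr) else 0) + c σ τ, fun x => ?_⟩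
  simp only [add_mul, ite_mul, zero_mul, Finset.sum_add_distrib, Finset.sum_ite_eq',
    Finset.mem_univ, if_true]
  rw [← hc]
  have h1 : ∑ σ : F ≃+* F, l (σ.trans fr) * (σ x * σ x) = q x + C x x := by
    have hl' : q x + C x x = ∑ σ, l σ * σ x := hl x
    rw [hl']
    refine Fintype.sum_equiv
      { toFun := fun σ => σ.trans fr, invFun := fun σ => σ.trans fr.symm,
        left_inv := fun σ => RingEquiv.ext fun y => by simp,
        right_inv := fun σ => RingEquiv.ext fun y => by simp } _ _ fun σ => ?_
    show _ = l (σ.trans fr) * fr (σ x)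
    rw [hfr]
  rw [h1, add_assoc, t0, add_zero]

end Cfsg.Agent.SuzukiTwo
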