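import Cfsg.Agent.Lib.SuzukiTwo.Basic

/-!
The action of `P` on a homocyclic normal subgroup, one layer at a time, written with coefficients
on field automorphisms; projection onto one coefficient.
-/

set_option autoImplicit false

open scoped commutatorElement

namespace Cfsg.Agent.SuzukiTwo

variable {F : Type*} [Field F] [Fintype F] [CharP F 2]

lemma zmod_two_cases : ∀ c : ZMod 2, c = 0 ∨ c = 1 := by decide

lemma sq_injective {x y : F} (h : x * x = y * y) : x = y :=
  (frobenius F 2).injective (by simpa [frobenius_def, pow_two] using h)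

/-- A product of two automorphisms determines the pair. -/
lemma prod_eq_prod {a b c d : F ≃+* F} (h : ∀ x, a x * b x = c x * d x) :
    (a = c ∧ b = d) ∨ (a = d ∧ b = c) := by
  classical
  have key : ∀ y σ, (if a = σ then b y else 0) + (if b = σ then a y else 0) =
      (if c = σ then d y else 0) + (if d = σ then c y else 0) := by
    intro y
    refine congrFun (autSum_injective fun x => ?_)
    simp only [add_mul, ite_mul, zero_mul, Finset.sum_add_distrib, Finset.sum_ite_eq,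
      Finset.mem_univ, if_true]
    have hxy := h (x + y)
    simp only [map_add] at hxy
    linear_combination hxy - h x - h y
  have t0 : ∀ z : F, z + z = 0 := CharTwo.add_self_eq_zero
  by_cases hab : a = b
  · subst hab
    have hcd : c = d := by
      refine RingEquiv.ext fun y => ?_
      have h1 := key y c
      by_cases hdc : d = c
      · rw [hdc]
      · simp only [if_true, hdc, if_false, add_zero] at h1
        exfalso
        have hall : ∀ z, d z = 0 := by
          intro z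
          have h2 := key z c
          simp only [if_true, hdc, if_false, add_zero] at h2
          rw [← h2]
          split <;> simp [t0]
        exact one_ne_zero (α := F) (by rw [← map_one d]; exact hall 1)
    subst hcd
    exact Or.inl ⟨RingEquiv.ext fun x => sq_injective (h x), RingEquiv.ext fun x => sq_injective (h x)⟩
  · by_cases hca : c = a
    · subst hca
      refine Or.inl ⟨rfl, RingEquiv.ext fun x => ?_⟩
      have h' := h x
      by_cases hx : x = 0
      · simp [hx]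
      · exact mul_left_cancel₀ (fun h0 => hx (c.map_eq_zero_iff.1 h0)) h'
    · by_cases hda : d = a
      · subst hda
        refine Or.inr ⟨rfl, RingEquiv.ext fun x => ?_⟩
        by_cases hx : x = 0
        · simp [hx]
        · exact mul_left_cancel₀ (fun h0 => hx (d.map_eq_zero_iff.1 h0))
            ((h x).trans (mul_comm _ _))
      · exfalso
        have h1 := key 1 a
        simp [Ne.symm hab, hca, hda] at h1

namespace SuzData

variable {P : Type*} [Group P] {d : SuzData P F}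

/-- The weight of the coefficient `σ`. -/
def lam (d : SuzData P F) (σ : F ≃+* F) : F := d.ω / σ d.ω

lemma lam_ne_zero (σ : F ≃+* F) : d.lam σ ≠ 0 :=
  div_ne_zero d.ω_ne_zero (fun h => d.ω_ne_zero (σ.map_eq_zero_iff.1 h))

lemma lam_eq_one {σ : F ≃+* F} (h : d.lam σ = 1) : σ = RingEquiv.refl F := by
  refine d.aut_ext ?_
  rw [lam, div_eq_one_iff_eq (fun h => d.ω_ne_zero (σ.map_eq_zero_iff.1 h))] at h
  exact h.symm

/-- Distinct coefficients have non-conjugate weights. -/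
lemma lam_conj {σ τ : F ≃+* F} (s : F ≃+* F) (h : s (d.lam σ) = d.lam τ) : σ = τ := by
  have hω := d.ω_ne_zero
  have h1 : s d.ω * τ d.ω = d.ω * s (σ d.ω) := by
    have hσ : s (σ d.ω) ≠ 0 := fun h => hω (σ.map_eq_zero_iff.1 (s.map_eq_zero_iff.1 h))
    have hτ : τ d.ω ≠ 0 := fun h => hω (τ.map_eq_zero_iff.1 h)
    rw [lam, lam, map_div₀, div_eq_div_iff hσ hτ] at h
    exact h
  have h2 : ∀ x, s x * τ x = RingEquiv.refl F x * (σ.trans s) x := by
    intro x
    by_cases hx : x = 0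
    · simp [hx]
    · obtain ⟨j, rfl⟩ := d.generates x hx
      simp only [map_pow, ← mul_pow, RingEquiv.refl_apply, RingEquiv.trans_apply, h1]
  rcases prod_eq_prod h2 with ⟨hs, ht⟩ | ⟨hs, ht⟩
  · subst hs; rw [ht]; rfl
  · subst ht
    refine RingEquiv.ext fun x => s.injective ?_
    rw [RingEquiv.refl_apply]
    exact (RingEquiv.congr_fun hs x).symm

/-- A subring of `Aut → F` containing the weights contains the coordinate idempotents. -/
lemma single_mem (R : Subring ((F ≃+* F) → F)) (hR : (fun σ => d.lam σ) ∈ R) (σ₀ : F ≃+* F) :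
    ∃ r ∈ R, r σ₀ = 1 ∧ ∀ τ, τ ≠ σ₀ → r τ = 0 := by
  classical
  letI := ZMod.algebra F 2
  haveI : Fact (Nat.Prime 2) := ⟨Nat.prime_two⟩
  have heval : ∀ p : Polynomial (ZMod 2), (fun σ => Polynomial.aeval (d.lam σ) p) ∈ R := by
    intro p
    induction p using Polynomial.induction_on with
    | C c =>
      simp only [Polynomial.aeval_C]
      rcases zmod_two_cases c with rfl | rfl
      · simp only [map_zero]; exact R.zero_mem
      · simp only [map_one]; exact R.one_mem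
    | add p q hp hq => simp only [map_add]; exact R.add_mem hp hq
    | monomial m c h =>
      simp only [pow_succ, ← mul_assoc, map_mul, Polynomial.aeval_X] at h ⊢
      exact R.mul_mem h hR
  have hq : ∀ τ, τ ≠ σ₀ → Polynomial.aeval (d.lam σ₀) (minpoly (ZMod 2) (d.lam τ)) ≠ 0 := by
    intro τ hτ h0
    have hint : IsIntegral (ZMod 2) (d.lam τ) := Algebra.IsIntegral.isIntegral _
    have heq := minpoly.eq_of_irreducible_of_monic (minpoly.irreducible hint) h0 (minpoly.monic hint)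
    obtain ⟨s, hs⟩ := (Normal.minpoly_eq_iff_mem_orbit F).1 heq
    exact hτ (lam_conj s.toRingEquiv hs).symm
  let r : (F ≃+* F) → F := fun σ => (∏ τ ∈ Finset.univ.erase σ₀,
    Polynomial.aeval (d.lam σ) (minpoly (ZMod 2) (d.lam τ))) ^ (Fintype.card F - 1)
  refine ⟨r, ?_, ?_, fun τ hτ => ?_⟩
  · have : r = (∏ τ ∈ Finset.univ.erase σ₀,
        fun σ => Polynomial.aeval (d.lam σ) (minpoly (ZMod 2) (d.lam τ))) ^ (Fintype.card F - 1) := by
      funext σ
      simp [r, Finset.prod_apply]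
    rw [this]
    exact R.pow_mem (prod_mem fun τ _ => heval _) _
  · exact FiniteField.pow_card_sub_one_eq_one _
      (Finset.prod_ne_zero_iff.2 fun τ hτ => hq τ (Finset.ne_of_mem_erase hτ))
  · have hz : ∏ ρ ∈ Finset.univ.erase σ₀,
        Polynomial.aeval (d.lam τ) (minpoly (ZMod 2) (d.lam ρ)) = 0 :=
      Finset.prod_eq_zero (Finset.mem_erase.2 ⟨hτ, Finset.mem_univ _⟩) (minpoly.aeval _ _)
    simp only [r, hz]
    exact zero_pow (by have := Fintype.one_lt_card (α := F); omega)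

variable {A B : Subgroup P} {k j : ℕ}

/-- `G` gives, on `B`, the coefficients of one layer of the action on `A`. -/
structure Coeff (d : SuzData P F) (A B : Subgroup P) (k j : ℕ) (G : P → (F ≃+* F) → F) : Prop where
  spec : ∀ p ∈ B, ∀ a ∈ A, d.ι (⁅p, a⁆ ^ 2 ^ (k - 1 - j)) = ∑ σ, G p σ * σ (d.pi k a)
  add : ∀ p ∈ B, ∀ q ∈ B, G (p * q) = G p + G q
  vanish : ∀ p ∈ B, p ∈ A → G p = 0
  equiv : ∀ p ∈ B, ∀ σ, G (d.g p) σ = d.lam σ * G p σ
  deeper : ∀ p ∈ B, G p = 0 → ∀ a ∈ A, ⁅p, a⁆ ^ 2 ^ (k - 1 - j) = 1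

lemma comm_mem_of_normal (hA : A.Normal) {a : P} (ha : a ∈ A) (p : P) : ⁅p, a⁆ ∈ A := by
  rw [commutatorElement_def]; exact mul_mem (hA.conj_mem a ha p) (inv_mem ha)

theorem exists_coeff (hA : d.Homo A k) (hBi : d.Inv B) (hjk : j < k)
    (hj : ∀ p ∈ B, ∀ a ∈ A, ⁅p, a⁆ ^ 2 ^ (k - j) = 1) :
    ∃ G, d.Coeff A B k j G := by
  classical
  set m := 2 ^ (k - 1 - j) with hm
  have hmm : ∀ u : P, u ^ m * u ^ m = u ^ 2 ^ (k - j) := by
    intro u
    rw [← pow_add, ← two_mul, hm, ← pow_succ', show k - 1 - j + 1 = k - j by omega]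
  have hinv : ∀ p ∈ B, ∀ a ∈ A, ⁅p, a⁆ ^ m * ⁅p, a⁆ ^ m = 1 := fun p hp a ha =>
    (hmm _).trans (hj p hp a ha)
  have hmul : ∀ p ∈ B, ∀ a ∈ A, ∀ b ∈ A,
      d.ι (⁅p, a * b⁆ ^ m) = d.ι (⁅p, a⁆ ^ m) + d.ι (⁅p, b⁆ ^ m) := by
    intro p hp a ha b hb
    have e : ⁅p, a * b⁆ = ⁅p, a⁆ * ⁅p, b⁆ := by
      have e1 : ⁅p, a * b⁆ = ⁅p, a⁆ * (a * ⁅p, b⁆ * a⁻¹) := by
        simp only [commutatorElement_def]; group
      rw [e1, hA.comm a ha _ (comm_mem_of_normal hA.normal hb p), mul_inv_cancel_right]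
    rw [e, hA.mul_pow (comm_mem_of_normal hA.normal ha p) (comm_mem_of_normal hA.normal hb p),
      d.ι_mul _ _ (hinv p hp a ha) (hinv p hp b hb)]
  choose sec hsec hsecπ using fun x => hA.pi_surj x
  have hwd : ∀ p ∈ B, ∀ a ∈ A, d.ι (⁅p, a⁆ ^ m) = d.ι (⁅p, sec (d.pi k a)⁆ ^ m) := by
    intro p hp a ha
    set a' := sec (d.pi k a)
    have ha' : a' ∈ A := hsec _
    obtain ⟨b, hb, hba⟩ := hA.exists_sq (mul_mem (inv_mem ha') ha) (by
      have h1 := hA.pi_mul ha' (mul_mem (inv_mem ha') ha)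
      rw [mul_inv_cancel_left, show d.pi k a' = d.pi k a from hsecπ _] at h1
      linear_combination -h1)
    have ea : a = a' * (b * b) := by rw [hba, mul_inv_cancel_left]
    rw [ea, hmul p hp a' ha' _ (mul_mem hb hb), hmul p hp b hb b hb, CharTwo.add_self_eq_zero,
      add_zero]
  have hT : ∀ p : P, ∃ c : (F ≃+* F) → F,
      p ∈ B → ∀ x, d.ι (⁅p, sec x⁆ ^ m) = ∑ σ, c σ * σ x := by
    intro p
    by_cases hp : p ∈ B
    · obtain ⟨c, hc⟩ := exists_autSum (AddMonoidHom.mk' (fun x => d.ι (⁅p, sec x⁆ ^ m))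
        (fun x y => by
          rw [← hmul p hp _ (hsec x) _ (hsec y), hwd p hp _ (mul_mem (hsec x) (hsec y)),
            hA.pi_mul (hsec x) (hsec y), hsecπ, hsecπ]))
      exact ⟨c, fun _ => hc⟩
    · exact ⟨0, fun h => absurd h hp⟩
  choose G hG using hT
  have spec : ∀ p ∈ B, ∀ a ∈ A, d.ι (⁅p, a⁆ ^ m) = ∑ σ, G p σ * σ (d.pi k a) :=
    fun p hp a ha => (hwd p hp a ha).trans (hG p hp _)
  have ext' : ∀ (c c' : (F ≃+* F) → F),
      (∀ a ∈ A, ∑ σ, c σ * σ (d.pi k a) = ∑ σ, c' σ * σ (d.pi k a)) → c = c' := fun c c' h =>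
    autSum_injective fun x => by
      obtain ⟨a, ha, rfl⟩ := hA.pi_surj x
      exact h a ha
  refine ⟨G, spec, fun p hp q hq => ext' _ _ fun a ha => ?_,
    fun p hp hpA => ext' _ _ fun a ha => ?_, fun p hp => congrFun (ext' _ _ fun a ha => ?_),
    fun p hp h a ha => ?_⟩
  · simp only [Pi.add_apply, add_mul, Finset.sum_add_distrib]
    rw [← spec _ (mul_mem hp hq) a ha, ← spec p hp a ha, ← spec q hq a ha]
    have e : ⁅p * q, a⁆ = p * ⁅q, a⁆ * p⁻¹ * ⁅p, a⁆ := by
      simp only [commutatorElement_def]; group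
    have e2 : p * ⁅q, a⁆ ^ m * p⁻¹ = ⁅q, a⁆ ^ m := by
      rw [d.comm_of_sq_one (hinv q hq a ha) p, mul_inv_cancel_right]
    rw [e, hA.mul_pow (hA.normal.conj_mem _ (comm_mem_of_normal hA.normal ha q) p)
      (comm_mem_of_normal hA.normal ha p), conj_pow, e2,
      d.ι_mul _ _ (hinv q hq a ha) (hinv p hp a ha), add_comm]
  · rw [← spec p hp a ha]
    simp [commutatorElement_eq_one_iff_mul_comm.2 (hA.comm p hpA a ha), d.ι_one]
  · have hga := hA.inv a ha
    have h1 := spec _ (hBi p hp) _ hga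
    rw [← map_commutatorElement, ← map_pow, d.ι_g _ (hinv p hp a ha), spec p hp a ha,
      Finset.mul_sum] at h1
    -- compare at `g a`
    obtain ⟨b, hb, hgb⟩ : ∃ b ∈ A, d.g b = a := by
      haveI := d.finite
      have hinj : Function.Injective (fun x : A => (⟨d.g x, hA.inv x x.2⟩ : A)) := fun x y h =>
        Subtype.ext (d.g.injective (congrArg Subtype.val h))
      obtain ⟨b, hb⟩ := Finite.injective_iff_surjective.1 hinj ⟨a, ha⟩
      exact ⟨b, b.2, congrArg Subtype.val hb⟩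
    have h2 := spec _ (hBi p hp) a ha
    rw [← hgb, ← map_commutatorElement, ← map_pow, d.ι_g _ (hinv p hp b hb), spec p hp b hb,
      hA.pi_g hb, Finset.mul_sum] at h2
    rw [← hgb, hA.pi_g hb, ← h2]
    refine Finset.sum_congr rfl fun σ _ => ?_
    have hσ : σ d.ω ≠ 0 := fun h => d.ω_ne_zero (σ.map_eq_zero_iff.1 h)
    show d.ω * (G p σ * σ (d.pi k b)) = d.lam σ * G p σ * σ (d.ω * d.pi k b)
    rw [map_mul, lam]
    field_simp
  · exact d.ι_eq_zero _ (hinv p hp a ha) (by rw [spec p hp a ha, h]; simp)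

/-- Projection onto one coefficient. -/
theorem Coeff.project {G : P → (F ≃+* F) → F} (hG : d.Coeff A B k j G) (hBi : d.Inv B)
    (σ₀ : F ≃+* F) {y : P} (hy : y ∈ B) :
    ∃ y' ∈ B, G y' σ₀ = G y σ₀ ∧ ∀ τ, τ ≠ σ₀ → G y' τ = 0 := by
  have hG1 : G 1 = 0 := hG.vanish 1 (one_mem B) (one_mem A)
  have hGinv : ∀ z ∈ B, G z⁻¹ = -G z := fun z hz => by
    rw [eq_neg_iff_add_eq_zero, ← hG.add _ (inv_mem hz) _ hz, inv_mul_cancel, hG1]
  let R : Subring ((F ≃+* F) → F) :=
    { carrier := {r | ∀ z ∈ B, ∃ z' ∈ B, G z' = r * G z}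
      one_mem' := fun z hz => ⟨z, hz, by rw [one_mul]⟩
      zero_mem' := fun z hz => ⟨1, one_mem B, by rw [hG1, zero_mul]⟩
      mul_mem' := fun {r s} hr hs z hz => by
        obtain ⟨z', hz', h'⟩ := hs z hz
        obtain ⟨z'', hz'', h''⟩ := hr z' hz'
        exact ⟨z'', hz'', by rw [h'', h', mul_assoc]⟩
      add_mem' := fun {r s} hr hs z hz => by
        obtain ⟨z', hz', h'⟩ := hr z hz
        obtain ⟨z'', hz'', h''⟩ := hs z hz
        exact ⟨z' * z'', mul_mem hz' hz'', by rw [hG.add _ hz' _ hz'', h', h'', add_mul]⟩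
      neg_mem' := fun {r} hr z hz => by
        obtain ⟨z', hz', h'⟩ := hr z hz
        exact ⟨z'⁻¹, inv_mem hz', by rw [hGinv _ hz', h', neg_mul]⟩ }
  obtain ⟨r, hr, h1, h0⟩ := single_mem (d := d) R
    (fun z hz => ⟨d.g z, hBi z hz, funext fun σ => hG.equiv z hz σ⟩) σ₀
  obtain ⟨y', hy', h'⟩ := hr y hy
  exact ⟨y', hy', by rw [h', Pi.mul_apply, h1, one_mul],
    fun τ hτ => by rw [h', Pi.mul_apply, h0 τ hτ, zero_mul]⟩

/-- On a step, all coefficients but one vanish and the remaining one is faithful. -/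
theorem Coeff.single {G : P → (F ≃+* F) → F} (hG : d.Coeff A B k j G) (hB : d.Step A B) :
    ∃ σ₀, (∀ y ∈ B, ∀ τ, τ ≠ σ₀ → G y τ = 0) ∧
      ((∀ y ∈ B, G y = 0) ∨ ∀ y ∈ B, G y σ₀ = 0 → y ∈ A) := by
  by_cases h : ∀ y ∈ B, G y = 0
  · exact ⟨RingEquiv.refl F, fun y hy τ _ => by rw [h y hy]; rfl, Or.inl h⟩
  simp only [not_forall] at h
  obtain ⟨y₀, hy₀, hne⟩ := h
  obtain ⟨σ₀, hσ₀⟩ := Function.ne_iff.1 hne
  obtain ⟨y', hy', hy'1, hy'0⟩ := hG.project hB.inv σ₀ hy₀
  have hker : ∀ τ, (∀ y ∈ B, G y τ = 0) ∨ ∀ y ∈ B, G y τ = 0 → y ∈ A := by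
    intro τ
    let C : Subgroup P :=
      { carrier := {y | y ∈ B ∧ G y τ = 0}
        one_mem' := ⟨one_mem B, congrFun (hG.vanish 1 (one_mem B) (one_mem A)) τ⟩
        mul_mem' := fun {u v} hu hv => ⟨mul_mem hu.1 hv.1, by
          rw [hG.add _ hu.1 _ hv.1, Pi.add_apply, hu.2, hv.2, add_zero]⟩
        inv_mem' := fun {u} hu => ⟨inv_mem hu.1, by
          have := congrFun (hG.add _ (inv_mem hu.1) _ hu.1) τ
          rw [inv_mul_cancel, hG.vanish 1 (one_mem B) (one_mem A), Pi.add_apply, hu.2, add_zero] at this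
          exact this.symm⟩ }
    rcases hB.irred C (fun a ha => ⟨hB.lt.le ha, congrFun (hG.vanish a (hB.lt.le ha) ha) τ⟩)
      (fun y hy => hy.1)
      (fun y hy => ⟨hB.inv y hy.1, by rw [hG.equiv y hy.1, hy.2, mul_zero]⟩) with hC | hC
    · exact Or.inr fun y hy h => by rw [← hC]; exact ⟨hy, h⟩
    · exact Or.inl fun y hy => by
        have : y ∈ C := by rw [hC]; exact hy
        exact this.2
  refine ⟨σ₀, fun y hy τ hτ => ?_, Or.inr ?_⟩
  · rcases hker τ with h | h
    · exact h y hy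
    · refine absurd (congrFun (hG.vanish y' hy' (h y' hy' (hy'0 τ hτ))) σ₀) ?_
      rw [hy'1]; exact hσ₀
  · exact (hker σ₀).resolve_left fun h => hσ₀ (h y₀ hy₀)

end SuzData

end Cfsg.Agent.SuzukiTwo
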